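import Groth.Agent.FibDescLoc.Res
import Mathlib

/-!
# Calculus of comparisons of inverse images
-/

set_option autoImplicit false
set_option linter.style.haveILetI false
set_option linter.unusedSectionVars false

universe u v

open CategoryTheory Limits

namespace Groth.Agent.FibDescProper

open FibDescLoc (gam gam_spec)

section Gam

variable {SB SA SB' SA' : Type u} [Category.{v} SB] [Category.{v} SA] [Category.{v} SB'] [Category.{v} SA']
  {pE : SB ⥤ SA} {rE : SA ⥤ SB} (aE : pE ⊣ rE) {pE' : SB' ⥤ SA'} {rE' : SA' ⥤ SB'} (aE' : pE' ⊣ rE')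
  (b : SB ⥤ SB') (a : SA ⥤ SA') (τ : rE ⋙ b ≅ a ⋙ rE')

theorem gam_natural {X X' : SB} (f : X ⟶ X') :
    pE'.map (b.map f) ≫ gam aE aE' b a τ X' = gam aE aE' b a τ X ≫ a.map (pE.map f) := by
  apply (aE'.homEquiv _ _).injective
  rw [Adjunction.homEquiv_naturality_left, Adjunction.homEquiv_naturality_right,
    Adjunction.homEquiv_unit, Adjunction.homEquiv_unit, gam_spec, gam_spec]
  have h1 := aE.unit.naturality f
  simp only [Functor.id_map, Functor.comp_map] at h1
  have h2 := τ.hom.naturality (pE.map f)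
  simp only [Functor.comp_map] at h2
  simp only [Functor.comp_obj, Functor.id_obj, Category.assoc] at h1 h2 ⊢
  rw [← h2, ← Functor.map_comp_assoc, h1, Functor.map_comp_assoc]

/-- the comparison, as a natural isomorphism -/
noncomputable def gamIso (h : ∀ X, IsIso (gam aE aE' b a τ X)) : b ⋙ pE' ≅ pE ⋙ a :=
  NatIso.ofComponents (fun X => @asIso _ _ _ _ _ (h X)) (fun f => gam_natural aE aE' b a τ f)

theorem gamIso_hom_app (h : ∀ X, IsIso (gam aE aE' b a τ X)) (X : SB) :
    (gamIso aE aE' b a τ h).hom.app X = gam aE aE' b a τ X := rfl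

/-- the comparison does not depend on the chosen left adjoints -/
theorem isIso_gam_change {qE : SB ⥤ SA} (cE : qE ⊣ rE) {qE' : SB' ⥤ SA'} (cE' : qE' ⊣ rE') (X : SB)
    (h : IsIso (gam aE aE' b a τ X)) : IsIso (gam cE cE' b a τ X) := by
  let u := aE.leftAdjointUniq cE
  let u' := aE'.leftAdjointUniq cE'
  have e : gam cE cE' b a τ X = u'.inv.app (b.obj X) ≫ gam aE aE' b a τ X ≫ a.map (u.hom.app X) := by
    apply (cE'.homEquiv _ _).injective
    rw [Adjunction.homEquiv_unit, Adjunction.homEquiv_unit, gam_spec, Functor.map_comp, Functor.map_comp,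
      ← Category.assoc (cE'.unit.app _)]
    have h' : cE'.unit.app (b.obj X) ≫ rE'.map (u'.inv.app (b.obj X)) = aE'.unit.app (b.obj X) := by
      rw [← Adjunction.unit_leftAdjointUniq_hom_app aE' cE' (b.obj X), Category.assoc, ← Functor.map_comp,
        Iso.hom_inv_id_app, CategoryTheory.Functor.map_id]
      exact Category.comp_id _
    rw [h', reassoc_of% gam_spec]
    have h2 := τ.hom.naturality (u.hom.app X)
    simp only [Functor.comp_map] at h2
    simp only [Functor.comp_obj] at h2 ⊢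
    rw [← h2, ← Functor.map_comp_assoc, Adjunction.unit_leftAdjointUniq_hom_app]
  rw [e]
  infer_instance

/-- the comparison is invertible when the units are -/
theorem isIso_gam_of_units (hu : ∀ X, IsIso (aE.unit.app X)) (hu' : ∀ X, IsIso (aE'.unit.app X))
    (e : pE ⋙ a ≅ b ⋙ pE') (X : SB) : IsIso (gam aE aE' b a τ X) := by
  haveI := hu X
  haveI := hu' (b.obj X)
  let k : pE'.obj (b.obj X) ⟶ pE'.obj (b.obj X) := gam aE aE' b a τ X ≫ e.hom.app X
  have hk : IsIso k := by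
    let A := b.obj X
    let m : A ⟶ rE'.obj (pE'.obj A) := aE'.unit.app A ≫ rE'.map k
    have hm : IsIso m := by
      show IsIso (aE'.unit.app (b.obj X) ≫ rE'.map (gam aE aE' b a τ X ≫ e.hom.app X))
      rw [Functor.map_comp, reassoc_of% gam_spec]
      infer_instance
    let h : A ⟶ A := m ≫ inv (aE'.unit.app A)
    have hk' : k = pE'.map h := by
      apply (aE'.homEquiv _ _).injective
      rw [Adjunction.homEquiv_unit, Adjunction.homEquiv_unit]
      have := aE'.unit.naturality h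
      simp only [Functor.id_map, Functor.comp_map] at this
      rw [← this, Category.assoc, IsIso.inv_hom_id, Category.comp_id]
    rw [hk']
    infer_instance
  exact IsIso.of_isIso_comp_right (gam aE aE' b a τ X) (e.hom.app X)

end Gam

section Paste

variable {S2 S1 S0 T2 T1 T0 : Type u} [Category.{v} S2] [Category.{v} S1] [Category.{v} S0]
  [Category.{v} T2] [Category.{v} T1] [Category.{v} T0]
  {p2 : S2 ⥤ T2} {r2 : T2 ⥤ S2} (a2 : p2 ⊣ r2) {p1 : S1 ⥤ T1} {r1 : T1 ⥤ S1} (a1 : p1 ⊣ r1)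
  {p0 : S0 ⥤ T0} {r0 : T0 ⥤ S0} (a0 : p0 ⊣ r0)
  (h : S2 ⥤ S1) (k : S1 ⥤ S0) (h' : T2 ⥤ T1) (k' : T1 ⥤ T0)
  (τh : r2 ⋙ h ≅ h' ⋙ r1) (τk : r1 ⋙ k ≅ k' ⋙ r0)

/-- pasting of two squares -/
noncomputable def pasteIso : r2 ⋙ (h ⋙ k) ≅ (h' ⋙ k') ⋙ r0 :=
  (Functor.associator _ _ _).symm ≪≫ Functor.isoWhiskerRight τh k ≪≫ Functor.associator _ _ _ ≪≫
    Functor.isoWhiskerLeft h' τk ≪≫ (Functor.associator _ _ _).symm

theorem gam_paste (X : S2) : gam a2 a0 (h ⋙ k) (h' ⋙ k') (pasteIso h k h' k' τh τk) X =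
    gam a1 a0 k k' τk (h.obj X) ≫ k'.map (gam a2 a1 h h' τh X) := by
  apply (a0.homEquiv _ _).injective
  rw [Adjunction.homEquiv_unit, Adjunction.homEquiv_unit, gam_spec, Functor.map_comp]
  have hs : _ ≫ r0.map (k'.map (gam a2 a1 h h' τh X)) = _ ≫ r0.map (k'.map (gam a2 a1 h h' τh X)) :=
    congrArg (· ≫ r0.map (k'.map (gam a2 a1 h h' τh X))) (gam_spec a1 a0 k k' τk (h.obj X))
  simp only [Category.assoc, Functor.comp_obj] at hs ⊢
  rw [hs]
  have h1 := τk.hom.naturality (gam a2 a1 h h' τh X)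
  simp only [Functor.comp_map] at h1
  simp only [Functor.comp_obj] at h1 ⊢
  rw [← h1, ← Functor.map_comp_assoc, gam_spec, Functor.map_comp, Category.assoc]
  simp [pasteIso]

end Paste

section TwoCell

variable {SB SA SB' SA' : Type u} [Category.{v} SB] [Category.{v} SA] [Category.{v} SB'] [Category.{v} SA']
  {pE : SB ⥤ SA} {rE : SA ⥤ SB} (aE : pE ⊣ rE) {pE' : SB' ⥤ SA'} {rE' : SA' ⥤ SB'} (aE' : pE' ⊣ rE')
  {b₁ b₂ : SB ⥤ SB'} {a₁ a₂ : SA ⥤ SA'} (τ₁ : rE ⋙ b₁ ≅ a₁ ⋙ rE') (τ₂ : rE ⋙ b₂ ≅ a₂ ⋙ rE')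
  (ν : b₁ ⟶ b₂) (ν' : a₁ ⟶ a₂)

theorem gam_twoCell
    (hc : ∀ M : SA, τ₁.hom.app M ≫ rE'.map (ν'.app M) = ν.app (rE.obj M) ≫ τ₂.hom.app M) (X : SB) :
    pE'.map (ν.app X) ≫ gam aE aE' b₂ a₂ τ₂ X = gam aE aE' b₁ a₁ τ₁ X ≫ ν'.app (pE.obj X) := by
  apply (aE'.homEquiv _ _).injective
  rw [Adjunction.homEquiv_naturality_left, Adjunction.homEquiv_naturality_right,
    Adjunction.homEquiv_unit, Adjunction.homEquiv_unit, gam_spec, gam_spec, Category.assoc, hc,
    ← Category.assoc, ← Category.assoc]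
  congr 1
  exact (ν.naturality (aE.unit.app X)).symm

end TwoCell

section Faithful

variable {A : Type u} [Category.{v} A] [Abelian A] {B : Type u} [Category.{v} B] [Abelian B]
  {F : A ⥤ B} {G : B ⥤ A} (adj : F ⊣ G) (hmono : ∀ X, Mono (adj.unit.app X))

include hmono in
theorem faithful_of_mono_unit : F.Faithful := ⟨fun {X Y} f g h => by
  have := hmono Y
  rw [← cancel_mono (adj.unit.app Y)]
  have e1 := adj.unit.naturality f
  have e2 := adj.unit.naturality g
  simp only [Functor.id_map, Functor.comp_map] at e1 e2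
  rw [e1, e2, h]⟩

theorem isZero_of_map [F.Additive] [F.Faithful] {X : A} (h : IsZero (F.obj X)) : IsZero X := by
  rw [IsZero.iff_id_eq_zero]
  exact F.map_injective (h.eq_of_src _ _)

theorem isIso_of_map [F.Faithful] {X Y : A} (f : X ⟶ Y) [IsIso (F.map f)] : IsIso f := by
  haveI : Mono f := F.mono_of_mono_map inferInstance
  haveI : Epi f := F.epi_of_epi_map inferInstance
  exact isIso_of_mono_of_epi f

end Faithful

section Kernel

variable {A : Type u} [Category.{v} A] [Abelian A]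

/-- kernels of isomorphic maps -/
theorem isIso_of_kernels {K L : ShortComplex A} [Mono K.f] (hK : K.Exact) [Mono L.f]
    (x : K.X₁ ⟶ L.X₁) (y : K.X₂ ⟶ L.X₂) (z : K.X₃ ⟶ L.X₃) [IsIso y] [Mono z]
    (h1 : x ≫ L.f = K.f ≫ y) (h2 : y ≫ L.g = K.g ≫ z) : IsIso x := by
  haveI : Mono x := mono_of_mono_fac h1
  have hz : (L.f ≫ inv y) ≫ K.g = 0 := by
    rw [← cancel_mono z, Category.assoc, Category.assoc, ← h2, IsIso.inv_hom_id_assoc, L.zero, zero_comp]
  haveI : IsSplitEpi x := IsSplitEpi.mk' ⟨hK.lift (L.f ≫ inv y) hz, by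
    rw [← cancel_mono L.f, Category.assoc, h1, hK.lift_f_assoc, Category.assoc, IsIso.inv_hom_id]
    simp⟩
  exact isIso_of_mono_of_epi x

end Kernel

end Groth.Agent.FibDescProper
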