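import Groth.Agent.FibDescProper.TotalMap
import Groth.Agent.W7CosimpLim.Basic
import Mathlib

/-!
# The Cech complex of a sheaf on an augmented simplicial space
-/

set_option backward.isDefEq.respectTransparency false
set_option backward.isDefEq.respectTransparency.types false
set_option linter.style.haveILetI false
set_option linter.unusedSectionVars false
set_option autoImplicit false
set_option synthInstance.maxHeartbeats 400000
set_option maxHeartbeats 1600000

universe u

open CategoryTheory Limits Opposite TopologicalSpace Pseudofunctor Pseudofunctor.CoGrothendieck Simplicial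

namespace Groth.Agent.FibDescProper

open FibDescLoc
open FibDescSplit (Sh res pb rk pbAdj rkAdj total_hom_ext)
open W7CosimpLim (cx cx_d consHom δ_zero_consHom δ_succ_consHom edge)

variable (Y : WI ⥤ TopCat.{u})

local notation "⋆" => FibDesc.bot SimplexCategory

/-- the augmentation of a level -/
noncomputable abbrev aug (n : SimplexCategory) : (prt Y).obj (op n) ⟶ Y.obj ⋆ :=
  Y.map (toBot ((FibDesc.toAug SimplexCategory).obj (op n)))

theorem aug_map {n m : SimplexCategory} (φ : n ⟶ m) : (prt Y).map φ.op ≫ aug Y n = aug Y m := by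
  rw [Functor.comp_map, ← Y.map_comp]
  exact congrArg Y.map ((FibDescSplit.subsingleton_bot _).elim _ _)

/-- the preimage of an open of the base in a level, as an object of the total site -/
noncomputable abbrev pre (n : SimplexCategory) (U : Opens (Y.obj ⋆)) : TS (prt Y) :=
  (lev (prt Y) (op n)).obj ((Opens.map (aug Y n)).obj U)

theorem pre_le {n m : SimplexCategory} (φ : n ⟶ m) {U V : Opens (Y.obj ⋆)} (h : U ≤ V) :
    (Opens.map (aug Y m)).obj U ≤
      (Opens.map ((prt Y).map φ.op)).obj ((Opens.map (aug Y n)).obj V) := fun q hq => by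
  show aug Y n ((prt Y).map φ.op q) ∈ V
  rw [show aug Y n ((prt Y).map φ.op q) = aug Y m q from ConcreteCategory.congr_hom (aug_map Y φ) q]
  exact h hq

/-- the face maps on preimages -/
noncomputable def preMap {n m : SimplexCategory} (φ : n ⟶ m) (U : Opens (Y.obj ⋆)) : pre Y m U ⟶ pre Y n U :=
  tmk φ.op (pre_le Y φ le_rfl)

/-- the levels of the Cech complex -/
noncomputable abbrev lvl (n : SimplexCategory) :
    Sh (tJ (prt Y)) ⥤ Sh (Opens.grothendieckTopology (Y.obj ⋆)) :=
  res (lev (prt Y) (op n)) (Opens.grothendieckTopology ((prt Y).obj (op n))) (tJ (prt Y)) ⋙ CohTop.push (aug Y n)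

/-- the Cech complex, as a cosimplicial functor -/
noncomputable def CPfun : SimplexCategory ⥤ (Sh (tJ (prt Y)) ⥤ Sh (Opens.grothendieckTopology (Y.obj ⋆))) where
  obj n := lvl Y n
  map {n m} φ :=
    { app := fun N => ⟨{ app := fun U => N.obj.map (preMap Y φ U.unop).op
                         naturality := fun U V i => by
                           show N.obj.map _ ≫ N.obj.map _ = N.obj.map _ ≫ N.obj.map _
                           rw [← N.obj.map_comp, ← N.obj.map_comp]
                           exact congrArg (fun k => N.obj.map k) (Quiver.Hom.unop_inj (total_hom_ext (by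
                             show φ.op ≫ 𝟙 _ = 𝟙 _ ≫ φ.op
                             simp))) }⟩
      naturality := fun N N' g => Sheaf.hom_ext (NatTrans.ext (funext fun U =>
        (g.hom.naturality (preMap Y φ U.unop).op).symm)) }
  map_id n := NatTrans.ext (funext fun N => Sheaf.hom_ext (NatTrans.ext (funext fun U => by
    show N.obj.map _ = 𝟙 _
    rw [← N.obj.map_id]
    exact congrArg (fun k => N.obj.map k) (Quiver.Hom.unop_inj (total_hom_ext rfl)))))
  map_comp {n m l} φ ψ := NatTrans.ext (funext fun N => Sheaf.hom_ext (NatTrans.ext (funext fun U => by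
    show N.obj.map _ = N.obj.map _ ≫ N.obj.map _
    rw [← N.obj.map_comp]
    exact congrArg (fun k => N.obj.map k) (Quiver.Hom.unop_inj (total_hom_ext rfl)))))

/-- the Cech cosimplicial sheaf -/
noncomputable def CP : Sh (tJ (prt Y)) ⥤ (SimplexCategory ⥤ Sh (Opens.grothendieckTopology (Y.obj ⋆))) :=
  (CPfun Y).flip

theorem CP_map_apply (N : Sh (tJ (prt Y))) {n m : SimplexCategory} (φ : n ⟶ m) (U : Opens (Y.obj ⋆))
    (s : N.obj.obj (op (pre Y n U))) :
    (((CP Y).obj N).map φ).hom.app (op U) s = N.obj.map (preMap Y φ U).op s := rfl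

theorem cx_d_apply (N : Sh (tJ (prt Y))) (n : ℕ) (U : Opens (Y.obj ⋆)) (s : N.obj.obj (op (pre Y ⦋n⦌ U))) :
    ((cx.obj ((CP Y).obj N)).d n (n + 1)).hom.app (op U) s =
      ∑ i : Fin (n + 2), (-1 : ℤ) ^ (i : ℕ) • N.obj.map (preMap Y (SimplexCategory.δ i) U).op s := by
  rw [cx_d]
  let ev : ((cx.obj ((CP Y).obj N)).X n ⟶ (cx.obj ((CP Y).obj N)).X (n + 1)) →+
      N.obj.obj (op (pre Y ⦋n + 1⦌ U)) := AddMonoidHom.mk' (fun k => k.hom.app (op U) s) fun a b => rfl
  show ev (∑ i : Fin (n + 2), (-1 : ℤ) ^ (i : ℕ) • ((CP Y).obj N).map (SimplexCategory.δ i)) = _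
  rw [map_sum]
  refine Finset.sum_congr rfl fun i _ => ?_
  rw [map_zsmul]
  rfl

/-- the unique arrow to the base on preimages -/
noncomputable def preTo (n : SimplexCategory) (U : Opens (Y.obj ⋆)) :
    (inclY Y).obj (pre Y n U) ⟶ (lev Y ⋆).obj U :=
  tmk (toBot _) le_rfl

theorem to_bot_ext {z : TS Y} {U : Opens (Y.obj ⋆)} (f g : z ⟶ (lev Y ⋆).obj U) : f = g :=
  total_hom_ext ((FibDescSplit.subsingleton_bot _).elim _ _)

/-- from the base to the first level -/
noncomputable def r0 : res (lev Y ⋆) (Opens.grothendieckTopology (Y.obj ⋆)) (tJ Y) ⟶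
    res (inclY Y) (tJ (prt Y)) (tJ Y) ⋙ lvl Y ⦋0⦌ where
  app N := ⟨{ app := fun U => N.obj.map (preTo Y ⦋0⦌ U.unop).op
              naturality := fun U V i => by
                show N.obj.map _ ≫ N.obj.map _ = N.obj.map _ ≫ N.obj.map _
                rw [← N.obj.map_comp, ← N.obj.map_comp]
                exact congrArg (fun k => N.obj.map k) (Quiver.Hom.unop_inj (to_bot_ext Y _ _)) }⟩
  naturality N N' g := Sheaf.hom_ext (NatTrans.ext (funext fun U =>
    (g.hom.naturality (preTo Y ⦋0⦌ U.unop).op).symm))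

theorem r0_d (N : Sh (tJ Y)) :
    (r0 Y).app N ≫ (cx.obj ((CP Y).obj ((res (inclY Y) (tJ (prt Y)) (tJ Y)).obj N))).d 0 1 = 0 := by
  refine Sheaf.hom_ext (NatTrans.ext (funext fun U => AddCommGrpCat.ext fun s => ?_))
  show ((cx.obj ((CP Y).obj ((res (inclY Y) (tJ (prt Y)) (tJ Y)).obj N))).d 0 (0 + 1)).hom.app (op U.unop)
    (N.obj.map (preTo Y ⦋0⦌ U.unop).op s) = 0
  rw [cx_d_apply, Fin.sum_univ_two]
  simp only [Fin.val_zero, pow_zero, one_zsmul, Fin.val_one, pow_one, neg_one_zsmul]
  rw [← sub_eq_add_neg]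
  refine Eq.trans ?_ (sub_self (N.obj.map (preTo Y ⦋1⦌ U.unop).op s))
  congr 1 <;>
  · refine Eq.trans ((ConcreteCategory.congr_hom (N.obj.map_comp _ _) s).symm) ?_
    exact congrArg (fun k => N.obj.map k s) (Quiver.Hom.unop_inj (to_bot_ext Y _ _))

/-- the beginning of the augmented Cech complex -/
noncomputable def sc (N : Sh (tJ Y)) : ShortComplex (Sh (Opens.grothendieckTopology (Y.obj ⋆))) :=
  ShortComplex.mk ((r0 Y).app N) ((cx.obj ((CP Y).obj ((res (inclY Y) (tJ (prt Y)) (tJ Y)).obj N))).d 0 1) (r0_d Y N)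

/-- a direct image from the part is determined by the first two levels -/
theorem sc_rk (M : Sh (tJ (prt Y))) :
    Mono (sc Y ((rk (inclY Y) (tJ (prt Y)) (tJ Y)).obj M)).f ∧
      (sc Y ((rk (inclY Y) (tJ (prt Y)) (tJ Y)).obj M)).Exact := by
  let N := (rk (inclY Y) (tJ (prt Y)) (tJ Y)).obj M
  let ε : (res (inclY Y) (tJ (prt Y)) (tJ Y)).obj N ⟶ M := (rkAdj (inclY Y) (tJ (prt Y)) (tJ Y)).counit.app M
  have hε : ε.hom = (inclY Y).op.ranCounit.app M.obj := by
    rw [← Functor.ranAdjunction_counit]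
    exact Functor.sheafAdjunctionCocontinuous_counit_app_hom _ AddCommGrpCat.{u} _ _ M
  have hπ : ∀ (U : Opens (Y.obj ⋆)) (z : TS (prt Y)) (f : (inclY Y).obj z ⟶ (lev Y ⋆).obj U)
      (v : z ⟶ pre Y ⦋0⦌ U) (x : N.obj.obj (op ((lev Y ⋆).obj U))),
      N.obj.map f.op x = N.obj.map ((inclY Y).map v).op (N.obj.map (preTo Y ⦋0⦌ U).op x) := fun U z f v x => by
    refine Eq.trans ?_ (ConcreteCategory.congr_hom (N.obj.map_comp _ _) x)
    exact congrArg (fun k => N.obj.map k x) (Quiver.Hom.unop_inj (to_bot_ext Y _ _))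
  -- the vertices
  have hz : ∀ (U : Opens (Y.obj ⋆)) (z : TS (prt Y)) (f : (inclY Y).obj z ⟶ (lev Y ⋆).obj U),
      (show Opens ((prt Y).obj z.base) from z.fiber) ≤ (Opens.map (aug Y z.base.unop)).obj U := fun U z f q hq => by
    have := le_hom f hq
    rw [show f.base = toBot _ from (FibDescSplit.subsingleton_bot _).elim _ _] at this
    exact this
  let vtx : ∀ (U : Opens (Y.obj ⋆)) (z : TS (prt Y)) (_ : (inclY Y).obj z ⟶ (lev Y ⋆).obj U)
      (_ : Fin (z.base.unop.len + 1)), z ⟶ pre Y ⦋0⦌ U := fun U z f i =>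
    tmk (x := z) (y := pre Y ⦋0⦌ U) (SimplexCategory.const ⦋0⦌ z.base.unop i).op
      ((hz U z f).trans (pre_le Y _ le_rfl))
  have hinj : ∀ (U : Opens (Y.obj ⋆)) (x x' : N.obj.obj (op ((lev Y ⋆).obj U))),
      N.obj.map (preTo Y ⦋0⦌ U).op x = N.obj.map (preTo Y ⦋0⦌ U).op x' → x = x' := by
    intro U x x' h
    have hL := (inclY Y).op.isPointwiseRightKanExtensionRanCounit M.obj (op ((lev Y ⋆).obj U))
    refine Concrete.isLimit_ext _ hL x x' fun f => ?_
    change ((inclY Y).op.ranCounit.app M.obj).app f.right (N.obj.map f.hom.unop.op x) =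
      ((inclY Y).op.ranCounit.app M.obj).app f.right (N.obj.map f.hom.unop.op x')
    exact congrArg (((inclY Y).op.ranCounit.app M.obj).app f.right)
      ((hπ U f.right.unop f.hom.unop (vtx U _ f.hom.unop 0) x).trans
        ((congrArg (N.obj.map ((inclY Y).map (vtx U _ f.hom.unop 0)).op) h).trans
          (hπ U f.right.unop f.hom.unop (vtx U _ f.hom.unop 0) x').symm))
  have hex : ∀ (U : Opens (Y.obj ⋆)) (y : N.obj.obj (op ((inclY Y).obj (pre Y ⦋0⦌ U)))),
      N.obj.map ((inclY Y).map (preMap Y (SimplexCategory.δ (0 : Fin 2)) U)).op y =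
        N.obj.map ((inclY Y).map (preMap Y (SimplexCategory.δ (1 : Fin 2)) U)).op y →
      ∃ x, N.obj.map (preTo Y ⦋0⦌ U).op x = y := by
    intro U y hy
    have hL := (inclY Y).op.isPointwiseRightKanExtensionRanCounit M.obj (op ((lev Y ⋆).obj U))
    have hconst : ∀ (z : TS (prt Y)) (f : (inclY Y).obj z ⟶ (lev Y ⋆).obj U) (i j : Fin (z.base.unop.len + 1)),
        N.obj.map ((inclY Y).map (vtx U z f i)).op y = N.obj.map ((inclY Y).map (vtx U z f j)).op y := by
      intro z f i j
      wlog hij : i ≤ j generalizing i j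
      · exact (this j i (le_of_not_ge hij)).symm
      have hr := hz U z f
      let e : z ⟶ pre Y ⦋1⦌ U := tmk (x := z) (y := pre Y ⦋1⦌ U) (edge i j hij).op (hr.trans (pre_le Y _ le_rfl))
      have e1 : vtx U z f i = e ≫ preMap Y (SimplexCategory.δ (1 : Fin 2)) U := total_hom_ext (by
        show (SimplexCategory.const ⦋0⦌ z.base.unop i).op = (edge i j hij).op ≫ (SimplexCategory.δ (1 : Fin 2)).op
        rw [← op_comp]; congr 1; ext k; fin_cases k; rfl)
      have e0 : vtx U z f j = e ≫ preMap Y (SimplexCategory.δ (0 : Fin 2)) U := total_hom_ext (by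
        show (SimplexCategory.const ⦋0⦌ z.base.unop j).op = (edge i j hij).op ≫ (SimplexCategory.δ (0 : Fin 2)).op
        rw [← op_comp]; congr 1; ext k; fin_cases k; rfl)
      rw [e1, e0, (inclY Y).map_comp, (inclY Y).map_comp, op_comp, op_comp, N.obj.map_comp, N.obj.map_comp,
        ConcreteCategory.comp_apply, ConcreteCategory.comp_apply, hy]
    let fam : ∀ f : StructuredArrow (op ((lev Y ⋆).obj U)) (inclY Y).op, M.obj.obj f.right := fun f =>
      ((inclY Y).op.ranCounit.app M.obj).app f.right (N.obj.map ((inclY Y).map (vtx U _ f.hom.unop 0)).op y)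
    have hfam : ∀ {f g : StructuredArrow (op ((lev Y ⋆).obj U)) (inclY Y).op} (k : f ⟶ g),
        M.obj.map k.right (fam f) = fam g := fun {f g} k => by
      refine (NatTrans.naturality_apply ((inclY Y).op.ranCounit.app M.obj) k.right _).symm.trans ?_
      refine congrArg (((inclY Y).op.ranCounit.app M.obj).app g.right) ?_
      refine ((ConcreteCategory.congr_hom (N.obj.map_comp _ _) y).symm.trans ?_).trans
        (hconst g.right.unop g.hom.unop (k.right.unop.base.unop.toOrderHom 0) 0)
      refine congrArg (fun w => N.obj.map w y) (Quiver.Hom.unop_inj ?_)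
      show (inclY Y).map k.right.unop ≫ (inclY Y).map (vtx U _ f.hom.unop 0) = (inclY Y).map (vtx U _ g.hom.unop _)
      rw [← (inclY Y).map_comp]
      exact congrArg (inclY Y).map (total_hom_ext (Quiver.Hom.unop_inj (by
        show SimplexCategory.const ⦋0⦌ f.right.unop.base.unop 0 ≫ k.right.unop.base.unop =
          SimplexCategory.const ⦋0⦌ g.right.unop.base.unop (k.right.unop.base.unop.toOrderHom 0)
        exact SimplexCategory.const_comp _ _ _)))
    let c : Cone (StructuredArrow.proj (op ((lev Y ⋆).obj U)) (inclY Y).op ⋙ M.obj) :=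
      { pt := AddCommGrpCat.of (ULift.{u} ℤ)
        π := { app := fun f => AddCommGrpCat.ofHom ((zmultiplesHom _ (fam f)).comp AddEquiv.ulift.toAddMonoidHom)
               naturality := fun f g k => AddCommGrpCat.ext fun ⟨m⟩ => by
                 show m • fam g = M.obj.map k.right (m • fam f)
                 rw [map_zsmul, hfam] } }
    let x : N.obj.obj (op ((lev Y ⋆).obj U)) := hL.lift c ⟨1⟩
    refine ⟨x, ?_⟩
    let f₀ : StructuredArrow (op ((lev Y ⋆).obj U)) (inclY Y).op :=
      StructuredArrow.mk (Y := op (pre Y ⦋0⦌ U)) (preTo Y ⦋0⦌ U).op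
    have hε' : Function.Injective (((inclY Y).op.ranCounit.app M.obj).app (op (pre Y ⦋0⦌ U))) := by
      haveI : (inclY Y).Full := FibDescSplit.baseChangeFunctor_full (ψ := FibDesc.toAug SimplexCategory)
      haveI : (inclY Y).Faithful := FibDescSplit.baseChangeFunctor_faithful (ψ := FibDesc.toAug SimplexCategory)
      exact ((ConcreteCategory.isIso_iff_bijective _).1 inferInstance).1
    apply hε'
    refine (ConcreteCategory.congr_hom (hL.fac c f₀) ⟨1⟩).trans ?_
    refine (one_zsmul (fam f₀)).trans (congrArg (((inclY Y).op.ranCounit.app M.obj).app (op (pre Y ⦋0⦌ U))) ?_)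
    refine Eq.trans ?_ (ConcreteCategory.congr_hom (N.obj.map_id _) y)
    refine congrArg (fun w => N.obj.map w y) (Quiver.Hom.unop_inj ?_)
    show (inclY Y).map (vtx U (pre Y ⦋0⦌ U) (preTo Y ⦋0⦌ U) 0) = 𝟙 _
    rw [← (inclY Y).map_id]
    congr 1
    exact total_hom_ext (Quiver.Hom.unop_inj (by
      show SimplexCategory.const ⦋0⦌ ⦋0⦌ 0 = 𝟙 _
      ext k; fin_cases k; rfl))
  have hmono : Mono (sc Y N).f := by
    haveI : ∀ U, Mono (((sheafToPresheaf _ _).map (sc Y N).f).app U) := fun U => by
      refine ConcreteCategory.mono_of_injective _ fun a b h => hinj U.unop a b h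
    haveI : Mono ((sheafToPresheaf _ _).map (sc Y N).f) := NatTrans.mono_of_mono_app _
    exact (sheafToPresheaf _ _).mono_of_mono_map inferInstance
  refine ⟨hmono, ShortComplex.exact_of_f_is_kernel _ (KernelFork.IsLimit.ofι' _ _ fun {W} k hk => ?_)⟩
  haveI := hmono
  have hsec : ∀ (U : Opens (Y.obj ⋆)) (w : W.obj.obj (op U)),
      ∃ x, N.obj.map (preTo Y ⦋0⦌ U).op x = k.hom.app (op U) w := fun U w => by
    refine hex U _ ?_
    have h := congrArg (fun t => t.hom.app (op U) w) hk
    change ((cx.obj ((CP Y).obj _)).d 0 1).hom.app (op U) (k.hom.app (op U) w) = 0 at h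
    rw [cx_d_apply, Fin.sum_univ_two] at h
    simp only [Fin.val_zero, pow_zero, one_zsmul, Fin.val_one, pow_one, neg_one_zsmul] at h
    rw [← sub_eq_add_neg, sub_eq_zero] at h
    exact h
  choose xs hxs using hsec
  let l : W ⟶ (sc Y N).X₁ := ⟨{
    app := fun U => AddCommGrpCat.ofHom (AddMonoidHom.mk' (xs U.unop) fun a b => hinj U.unop _ _ (by
      rw [map_add, hxs, hxs, hxs, map_add]))
    naturality := fun U V i => AddCommGrpCat.ext fun w => by
      show xs V.unop (W.obj.map i w) = (sc Y N).X₁.obj.map i (xs U.unop w)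
      refine hinj V.unop _ _ ((hxs _ _).trans ?_)
      refine (NatTrans.naturality_apply k.hom i w).trans ?_
      refine (congrArg ((sc Y N).X₂.obj.map i) (hxs U.unop w)).symm.trans ?_
      exact (NatTrans.naturality_apply ((r0 Y).app N).hom i (xs U.unop w)).symm }⟩
  exact ⟨l, Sheaf.hom_ext (NatTrans.ext (funext fun U => AddCommGrpCat.ext fun w => hxs U.unop w))⟩

end Groth.Agent.FibDescProper
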