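import Groth.Agent.FibDescProper.Vanish
import Groth.Agent.FibDescLoc.Local
import Groth.Agent.DescAdams.Main
import Groth.Agent.GrothSS.Ext
import Groth.Agent.GrothSS.SupportSS
import Groth.Agent.FibSiteLib.Ran
import Groth.Agent.TopPullModel.Descent
import Mathlib

/-!
# Proper surjective maps with separated fibres are of cohomological descent
-/

set_option backward.isDefEq.respectTransparency false
set_option backward.isDefEq.respectTransparency.types false
set_option linter.style.haveILetI false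
set_option linter.unusedSectionVars false
set_option autoImplicit false
set_option synthInstance.maxHeartbeats 400000
set_option maxHeartbeats 1600000

universe u

open CategoryTheory Limits Opposite TopologicalSpace Pseudofunctor Pseudofunctor.CoGrothendieck Simplicial

namespace Groth.Agent.FibDescProper

open FibDescLoc
open FibDescSplit (Sh res pb rk pbAdj rkAdj total_hom_ext)
open W7CosimpLim (cx cx_d)
open TopPullModel (madj mfun mfunIso)

local notation "⋆" => FibDesc.bot SimplexCategory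

instance mfun_limits {P S : TopCat.{u}} (g : P ⟶ S) : PreservesFiniteLimits (mfun g) :=
  haveI : PreservesFiniteLimits (CohTop.pull g) :=
    preservesFiniteLimits_of_natIso ((pbAdj (Opens.map g) (Opens.grothendieckTopology S)
      (Opens.grothendieckTopology P)).leftAdjointUniq
        (TopCat.Sheaf.pullbackPushforwardAdjunction AddCommGrpCat.{u} g))
  preservesFiniteLimits_of_natIso (mfunIso g).symm

instance mfun_colimits {P S : TopCat.{u}} (g : P ⟶ S) : PreservesFiniteColimits (mfun g) :=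
  haveI : PreservesColimitsOfSize.{0, 0} (mfun g) := (madj g).leftAdjoint_preservesColimits
  PreservesColimitsOfSize.preservesFiniteColimits _

instance mfun_additive {P S : TopCat.{u}} (g : P ⟶ S) : (mfun g).Additive := (madj g).left_adjoint_additive

/-- additive functors commute with coface complexes -/
noncomputable def cxMapIso {A B : Type (u + 1)} [Category.{u} A] [Abelian A] [Category.{u} B] [Abelian B]
    (F : A ⥤ B) [F.Additive] (C : SimplexCategory ⥤ A) :
    (F.mapHomologicalComplex (ComplexShape.up ℕ)).obj (cx.obj C) ≅ cx.obj (C ⋙ F) :=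
  HomologicalComplex.Hom.isoOfComponents (fun n => Iso.refl _) (fun i j h => by
    obtain rfl : i + 1 = j := h
    refine (Category.id_comp _).trans (Eq.trans ?_ (Category.comp_id _).symm)
    rw [Functor.mapHomologicalComplex_obj_d, cx_d, cx_d, F.map_sum]
    refine Finset.sum_congr rfl fun k _ => ?_
    exact (F.map_zsmul (f := C.map (SimplexCategory.δ k))).symm)

variable {Y' Y : WI ⥤ TopCat.{u}} (τ : Y' ⟶ Y)

/-- the comparison at the base -/
noncomputable def botIso :
    res (lev Y ⋆) (Opens.grothendieckTopology (Y.obj ⋆)) (tJ Y) ⋙ mfun (τ.app ⋆) ≅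
      pb (AF τ) (tJ Y) (tJ Y') ⋙ res (lev Y' ⋆) (Opens.grothendieckTopology (Y'.obj ⋆)) (tJ Y') :=
  gamIso _ _ _ _ _ (isIso_gam_lev τ ⋆)

/-- the comparison on the part -/
noncomputable def partIso :
    res (inclY Y) (tJ (prt Y)) (tJ Y) ⋙ pb (AF (τP τ)) (tJ (prt Y)) (tJ (prt Y')) ≅
      pb (AF τ) (tJ Y) (tJ Y') ⋙ res (inclY Y') (tJ (prt Y')) (tJ Y') :=
  gamIso _ _ _ _ _ (isIso_gam_part τ)

theorem aug_square (n : SimplexCategory) : (τP τ).app (op n) ≫ aug Y n = aug Y' n ≫ τ.app ⋆ :=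
  (τ.naturality _).symm

/-- the square of a level over the base -/
noncomputable def lvlTau (n : SimplexCategory) :
    res (AF (τP τ)) (tJ (prt Y)) (tJ (prt Y')) ⋙ lvl Y n ≅ lvl Y' n ⋙ CohTop.push (τ.app ⋆) :=
  pasteIso _ _ _ _ (levTau (τP τ) (op n)) (spTau (aug_square τ n))

/-- the comparison of a level over the base -/
noncomputable def psi (n : SimplexCategory) (M : Sh (tJ (prt Y))) :
    (mfun (τ.app ⋆)).obj ((lvl Y n).obj M) ⟶ (lvl Y' n).obj ((pb (AF (τP τ)) (tJ (prt Y)) (tJ (prt Y'))).obj M) :=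
  gam (pbAdj (AF (τP τ)) (tJ (prt Y)) (tJ (prt Y'))) (madj (τ.app ⋆)) (lvl Y n) (lvl Y' n) (lvlTau τ n) M

theorem psi_natural (n : SimplexCategory) {M M' : Sh (tJ (prt Y))} (f : M ⟶ M') :
    (mfun (τ.app ⋆)).map ((lvl Y n).map f) ≫ psi τ n M' =
      psi τ n M ≫ (lvl Y' n).map ((pb (AF (τP τ)) (tJ (prt Y)) (tJ (prt Y'))).map f) :=
  gam_natural _ _ _ _ _ f

variable (hpb : ∀ n : SimplexCategory, IsPullback ((τP τ).app (op n)) (aug Y' n) (aug Y n) (τ.app ⋆))
  (hprop : ∀ n : SimplexCategory, TopCompact.ProperSep (aug Y n))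

include hpb hprop in
theorem isIso_psi (n : SimplexCategory) (M : Sh (tJ (prt Y))) : IsIso (psi τ n M) := by
  rw [psi]
  erw [gam_paste (pbAdj (AF (τP τ)) (tJ (prt Y)) (tJ (prt Y'))) (madj ((τP τ).app (op n))) (madj (τ.app ⋆))]
  haveI := isIso_gam_lev (τP τ) (op n) M
  haveI := isIso_gam_madj (hpb n) (hprop n)
    ((res (lev (prt Y) (op n)) (Opens.grothendieckTopology ((prt Y).obj (op n))) (tJ (prt Y))).obj M)
  infer_instance

theorem psi_cosimp {n m : SimplexCategory} (φ : n ⟶ m) (M : Sh (tJ (prt Y))) :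
    (mfun (τ.app ⋆)).map (((CP Y).obj M).map φ) ≫ psi τ m M =
      psi τ n M ≫ ((CP Y').obj ((pb (AF (τP τ)) (tJ (prt Y)) (tJ (prt Y'))).obj M)).map φ := by
  refine gam_twoCell _ _ (lvlTau τ n) (lvlTau τ m) ((CPfun Y).map φ) ((CPfun Y').map φ) (fun N => ?_) M
  refine Sheaf.hom_ext (NatTrans.ext (funext fun U => AddCommGrpCat.ext fun s => ?_))
  simp [lvlTau, pasteIso, levTau, spTau, tauIso, CPfun, sqIso_hom_app]
  erw [← ConcreteCategory.comp_apply, ← ConcreteCategory.comp_apply, ← N.obj.map_comp, ← N.obj.map_comp]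
  show _ = ConcreteCategory.hom (N.obj.map _ ≫ N.obj.map _ ≫ N.obj.map _) s
  rw [← Functor.map_comp, ← Functor.map_comp]
  refine congrArg (fun w => ConcreteCategory.hom (N.obj.map w) s) (Quiver.Hom.unop_inj (total_hom_ext ?_))
  show φ.op ≫ 𝟙 _ ≫ 𝟙 _ = 𝟙 _ ≫ 𝟙 _ ≫ φ.op
  simp

theorem psi_bot (N : Sh (tJ Y)) :
    (mfun (τ.app ⋆)).map ((r0 Y).app N) ≫ psi τ ⦋0⦌ ((res (inclY Y) (tJ (prt Y)) (tJ Y)).obj N) ≫
        (lvl Y' ⦋0⦌).map ((partIso τ).hom.app N) =
      (botIso τ).hom.app N ≫ (r0 Y').app ((pb (AF τ) (tJ Y) (tJ Y')).obj N) := by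
  refine Eq.trans (congrArg ((mfun (τ.app ⋆)).map ((r0 Y).app N) ≫ ·)
    (gam_paste (pbAdj (AF τ) (tJ Y) (tJ Y')) (pbAdj (AF (τP τ)) (tJ (prt Y)) (tJ (prt Y'))) (madj (τ.app ⋆))
      (res (inclY Y) (tJ (prt Y)) (tJ Y)) (lvl Y ⦋0⦌) (res (inclY Y') (tJ (prt Y')) (tJ Y')) (lvl Y' ⦋0⦌)
      (partTau τ) (lvlTau τ ⦋0⦌) N).symm) ?_
  refine gam_twoCell _ _ (levTau τ ⋆) (pasteIso _ _ _ _ (partTau τ) (lvlTau τ ⦋0⦌)) (r0 Y) (r0 Y') (fun L => ?_) N
  refine Sheaf.hom_ext (NatTrans.ext (funext fun U => AddCommGrpCat.ext fun s => ?_))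
  simp [lvlTau, pasteIso, levTau, partTau, spTau, tauIso, r0, sqIso_hom_app]
  erw [← ConcreteCategory.comp_apply, ← ConcreteCategory.comp_apply, ← L.obj.map_comp, ← L.obj.map_comp]
  show _ = ConcreteCategory.hom ((L.obj.map _ ≫ L.obj.map _) ≫ L.obj.map _) s
  rw [← Functor.map_comp, ← Functor.map_comp]
  exact congrArg (fun w => ConcreteCategory.hom (L.obj.map w) s) (Quiver.Hom.unop_inj (to_bot_ext Y' _ _))

/-- the cosimplicial comparison -/
noncomputable def psiIso (M : Sh (tJ (prt Y))) :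
    (CP Y).obj M ⋙ mfun (τ.app ⋆) ≅ (CP Y').obj ((pb (AF (τP τ)) (tJ (prt Y)) (tJ (prt Y'))).obj M) :=
  NatIso.ofComponents (fun n => @asIso _ _ _ _ _ (isIso_psi τ hpb hprop n M)) (fun φ => psi_cosimp τ φ M)

/-- the comparison of Cech complexes -/
noncomputable def psiCx (M : Sh (tJ (prt Y))) :
    ((mfun (τ.app ⋆)).mapHomologicalComplex (ComplexShape.up ℕ)).obj (cx.obj ((CP Y).obj M)) ≅
      cx.obj ((CP Y').obj ((pb (AF (τP τ)) (tJ (prt Y)) (tJ (prt Y'))).obj M)) :=
  cxMapIso (mfun (τ.app ⋆)) ((CP Y).obj M) ≪≫ cx.mapIso (psiIso τ hpb hprop M)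

theorem psiCx_f (M : Sh (tJ (prt Y))) (n : ℕ) : (psiCx τ hpb hprop M).hom.f n = psi τ ⦋n⦌ M := by
  simp [psiCx, cxMapIso, psiIso]

local notation "rI" => res (inclY Y) (tJ (prt Y)) (tJ Y)
local notation "rI'" => res (inclY Y') (tJ (prt Y')) (tJ Y')
local notation "kI" => rk (inclY Y) (tJ (prt Y)) (tJ Y)
local notation "rE'" => res (lev Y' ⋆) (Opens.grothendieckTopology (Y'.obj ⋆)) (tJ Y')
local notation "pP" => pb (AF (τP τ)) (tJ (prt Y)) (tJ (prt Y'))
local notation "aT" => pb (AF τ) (tJ Y) (tJ Y')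
local notation "bg" => mfun (τ.app ⋆)

include hpb hprop in
theorem isIso_map_rho (M : Sh (tJ (prt Y))) :
    IsIso ((rE').map (rho (rkAdj (inclY Y) (tJ (prt Y)) (tJ Y)) (rkAdj (inclY Y') (tJ (prt Y')) (tJ Y')) aT pP
      (partIso τ) M)) := by
  let aI := rkAdj (inclY Y) (tJ (prt Y)) (tJ Y)
  let aI' := rkAdj (inclY Y') (tJ (prt Y')) (tJ Y')
  let N := (kI).obj M
  let ρ := rho aI aI' aT pP (partIso τ) M
  let N' := (rk (inclY Y') (tJ (prt Y')) (tJ Y')).obj ((pP).obj M)
  let x := (botIso τ).hom.app N ≫ (rE').map ρ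
  suffices hx : IsIso x by
    exact IsIso.of_isIso_comp_left ((botIso τ).hom.app N) ((rE').map ρ)
  let L := scB Y' ((pP).obj M)
  let K := (scB Y M).map bg
  haveI : Mono K.f := by
    haveI := (scB_exact Y M).1
    exact inferInstanceAs (Mono ((bg).map (scB Y M).f))
  haveI : Mono L.f := (scB_exact Y' _).1
  let y : K.X₂ ⟶ L.X₂ := psi τ ⦋0⦌ M
  let z : K.X₃ ⟶ L.X₃ := psi τ ⦋1⦌ M
  haveI : IsIso y := isIso_psi τ hpb hprop ⦋0⦌ M
  haveI : IsIso z := isIso_psi τ hpb hprop ⦋1⦌ M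
  refine isIso_of_kernels (K := K) (L := L) ((scB_exact Y M).2.map bg) x y z ?_ ?_
  · show ((botIso τ).hom.app N ≫ (rE').map ρ) ≫ (r0 Y').app N' ≫
      (lvl Y' ⦋0⦌).map (aI'.counit.app ((pP).obj M)) =
      (bg).map ((r0 Y).app N ≫ (lvl Y ⦋0⦌).map (aI.counit.app M)) ≫ psi τ ⦋0⦌ M
    have h1 : (rE').map ρ ≫ (r0 Y').app N' = (r0 Y').app ((aT).obj N) ≫ (lvl Y' ⦋0⦌).map ((rI').map ρ) :=
      (r0 Y').naturality ρ
    have h2 : (rI').map ρ ≫ aI'.counit.app _ = (partIso τ).inv.app N ≫ (pP).map (aI.counit.app M) := by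
      have h := (aI'.homEquiv _ _).symm_apply_apply ((partIso τ).inv.app N ≫ (pP).map (aI.counit.app M))
      rw [Adjunction.homEquiv_counit] at h
      exact h
    rw [Category.assoc, ← Category.assoc ((rE').map ρ), h1, Category.assoc, ← (lvl Y' ⦋0⦌).map_comp, h2,
      (lvl Y' ⦋0⦌).map_comp, ← Category.assoc, ← psi_bot, Category.assoc, Category.assoc,
      ← Category.assoc ((lvl Y' ⦋0⦌).map _), ← (lvl Y' ⦋0⦌).map_comp, Iso.hom_inv_id_app]
    erw [(lvl Y' ⦋0⦌).map_id, Category.id_comp]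
    rw [(bg).map_comp, Category.assoc]
    exact congrArg ((bg).map ((r0 Y).app N) ≫ ·) (psi_natural τ ⦋0⦌ (aI.counit.app M)).symm
  · have h := (psiCx τ hpb hprop M).hom.comm 0 1
    rw [psiCx_f, psiCx_f] at h
    exact h

instance pP_limits : PreservesFiniteLimits pP := inferInstance

include hpb hprop in
/-- injective sheaves become acyclic -/
theorem isZero_pullback_injective (Q : Sh (tJ (prt Y))) (hQ : Injective Q) (q : ℕ) :
    IsZero (((pushB Y').rightDerived (q + 1)).obj ((pP).obj Q)) := by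
  refine isZero_rightDerived Y' q _ (fun n j => ?_) (fun k => ?_)
  · haveI := isIso_gam_lev (τP τ) (op n) Q
    haveI := flasque_level Q hQ (op n)
    refine IsZero.of_iso ?_ ((CohTop.Rpush (aug Y' n) (j + 1)).mapIso
      (asIso (gam (pbAdj (AF (τP τ)) (tJ (prt Y)) (tJ (prt Y'))) (madj ((τP τ).app (op n))) _ _
        (levTau (τP τ) (op n)) Q))).symm
    exact TopCompact.isZero_Rpush_mfun (hpb n) (hprop n) _ j
  · rw [HomologicalComplex.exactAt_iff_isZero_homology]
    have h : (((bg).mapHomologicalComplex (ComplexShape.up ℕ)).obj (cx.obj ((CP Y).obj Q))).ExactAt (k + 1) :=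
      (HomologicalComplex.exactAt_iff _ _).2
        (((HomologicalComplex.exactAt_iff _ _).1 (exactAt_cx_injective Q hQ k)).map bg)
    exact h.isZero_homology.of_iso
      ((HomologicalComplex.homologyFunctor _ _ (k + 1)).mapIso (psiCx τ hpb hprop Q).symm)

include hpb hprop in
/-- descent is reflected by faithful base change -/
theorem good_of_baseChange [(mfun (τ.app ⋆)).Faithful] (hdesc : FibDesc.IsCohDescentTop Y') :
    FibDesc.IsCohDescentTop Y := by
  rw [isCohDescentTop_iff_good] at hdesc ⊢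
  let aI := rkAdj (inclY Y) (tJ (prt Y)) (tJ Y)
  let aI' := rkAdj (inclY Y') (tJ (prt Y')) (tJ Y')
  let aE := pbAdj (lev Y ⋆) (Opens.grothendieckTopology (Y.obj ⋆)) (tJ Y)
  let aE' := pbAdj (lev Y' ⋆) (Opens.grothendieckTopology (Y'.obj ⋆)) (tJ Y')
  have hd : Good (aE'.comp aI') := hdesc
  change Good (aE.comp aI)
  have hu : ∀ (Z : WI ⥤ TopCat.{u}) (X : Sh (Opens.grothendieckTopology (Z.obj ⋆))),
      IsIso ((pbAdj (lev Z ⋆) (Opens.grothendieckTopology (Z.obj ⋆)) (tJ Z)).unit.app X) := by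
    intro Z X
    let E := lev Z ⋆
    let J := Opens.grothendieckTopology (Z.obj ⋆)
    haveI : E.Full := ⟨fun h => by
      obtain ⟨w, hw⟩ := FibSiteLib.mkHom_one h ((FibDescSplit.subsingleton_bot _).elim _ _)
      exact ⟨w, hw.symm⟩⟩
    haveI : E.Faithful := ⟨fun h => FibSiteLib.ι_map_injective h⟩
    haveI : IsIso (E.op.ranAdjunction AddCommGrpCat.{u}).counit := by
      rw [Functor.ranAdjunction_counit]; exact NatIso.isIso_of_isIso_app _
    have hran := (E.op.ranAdjunction AddCommGrpCat.{u}).fullyFaithfulROfIsIsoCounit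
    let t : Adjunction.Triple (pb E J (tJ Z)) (res E J (tJ Z)) (rk E J (tJ Z)) := ⟨pbAdj E J (tJ Z), rkAdj E J (tJ Z)⟩
    have hr : (rk E J (tJ Z)).FullyFaithful :=
      Functor.FullyFaithful.ofCompFaithful (G := sheafToPresheaf _ _)
        (((fullyFaithfulSheafToPresheaf _ _).comp hran).ofIso
          (E.sheafPushforwardCocontinuousCompSheafToPresheafIso AddCommGrpCat.{u} J (tJ Z)).symm)
    haveI := (t.fullyFaithfulEquiv.symm hr).full
    haveI := (t.fullyFaithfulEquiv.symm hr).faithful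
    infer_instance
  let e0 : pb (lev Y ⋆) (Opens.grothendieckTopology (Y.obj ⋆)) (tJ Y) ⋙ aT ≅
      bg ⋙ pb (lev Y' ⋆) (Opens.grothendieckTopology (Y'.obj ⋆)) (tJ Y') :=
    (aE.comp (pbAdj (AF τ) (tJ Y) (tJ Y'))).leftAdjointUniq
      (((madj (τ.app ⋆)).comp aE').ofNatIsoRight (levTau τ ⋆).symm)
  have hγ : ∀ X, IsIso (gam aE aE' bg aT (botIso τ) X) := fun X =>
    isIso_gam_of_units aE aE' bg aT (botIso τ) (hu Y) (hu Y') e0 X
  have hρ := isIso_map_rho τ hpb hprop
  intro X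
  refine ⟨?_, fun q hq => ?_⟩
  · haveI := (hd ((bg).obj X)).1
    haveI := isIso_map_unit aE aI aE' aI' bg aT pP (partIso τ) (botIso τ) hρ hγ X
    exact isIso_of_map (F := bg) _
  · obtain ⟨q, rfl⟩ : ∃ k, q = k + 1 := ⟨q - 1, by omega⟩
    apply isZero_of_map (F := bg)
    let M := (rI).obj ((pb (lev Y ⋆) (Opens.grothendieckTopology (Y.obj ⋆)) (tJ Y)).obj X)
    obtain ⟨i₁⟩ := GrothSS.nonempty_rightDerived_comp_exact (pushB Y) bg (q + 1) M
    obtain ⟨i₂⟩ := GrothSS.nonempty_rightDerived_comp_acyclic pP (pushB Y') (fun Q hQ r hr => by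
      obtain ⟨r, rfl⟩ : ∃ k, r = k + 1 := ⟨r - 1, by omega⟩
      exact isZero_pullback_injective τ hpb hprop Q hQ r) (q + 1) M
    refine IsZero.of_iso ?_ (i₁.symm ≪≫
      (GrothSS.rightDerivedMapIso (pushIso aI aI' bg aT pP (partIso τ) (botIso τ) hρ) (q + 1)).app M ≪≫ i₂)
    exact ((hd ((bg).obj X)).2 (q + 1) hq).of_iso
      (((pushB Y').rightDerived (q + 1)).mapIso
        (pullIso aE aE' bg aT pP (partIso τ) (botIso τ) hγ X).symm)

/-! ### Cech nerves -/

variable {X S : TopCat.{u}} (f : X ⟶ S)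

theorem properSep_ya (hf : TopCompact.ProperSep f) (n : SimplexCategory) :
    TopCompact.ProperSep (FibDescSplit.ya f n) := by
  obtain ⟨k, rfl⟩ : ∃ k, n = ⦋k⦌ := ⟨n.len, (SimplexCategory.mk_len n).symm⟩
  induction k with
  | zero =>
    exact TopCompact.properSep_baseChange (DescAdams.isPullback_zero f) hf
  | succ k ih =>
    have h := properSep_comp (TopCompact.properSep_baseChange (DescAdams.isPullback_succ f k) hf) ih
    rw [show FibDescSplit.ya f ⦋k + 1⦌ = _ ≫ _ from ?_]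
    · exact h
    · refine TopCat.hom_ext (ContinuousMap.ext fun v => ?_)
      exact (TopPullModel.bs_simp' f _ v).symm

/-- a proper surjective map with separated fibres is of cohomological descent -/
theorem isCohDescentMap_of_properSep (hf : TopCompact.ProperSep f) (hs : Function.Surjective f) :
    FibDesc.IsCohDescentMap f := by
  have hY' : FibDesc.IsCohDescentMap (pullback.snd f f) :=
    FibDescSplit.isCohDescentMap_of_section (pullback.snd f f) (pullback.lift (𝟙 X) (𝟙 X) rfl)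
      (pullback.lift_snd _ _ _)
  haveI : (mfun ((restrMap f f).app ⋆)).Faithful := by
    haveI : (CohTop.pull f).Faithful :=
      faithful_of_mono_unit (CohTopDesc.adj f) (fun G => DescAdams.mono_unit f hs G)
    exact Functor.Faithful.of_iso (mfunIso f).symm
  refine good_of_baseChange (restrMap f f) (fun n => ?_) (fun n => ?_) hY'
  · exact isPullback_restrN f f n
  · exact properSep_ya f hf n

end Groth.Agent.FibDescProper
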