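import Groth.Agent.FibDescProper.Abstract
import Groth.Agent.FibDescLoc.Site
import Groth.Agent.TopCompact.BaseChange
import Mathlib

/-!
# The base change comparison of spaces as a mate
-/

set_option backward.isDefEq.respectTransparency false
set_option backward.isDefEq.respectTransparency.types false
set_option linter.style.haveILetI false
set_option linter.unusedSectionVars false
set_option autoImplicit false

universe u

open CategoryTheory Limits Opposite TopologicalSpace

namespace Groth.Agent.FibDescProper

open FibDescLoc (gam gam_spec tauIso)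
open TopPullModel (madj mfun mfunIso)

variable {X Y X' Y' : TopCat.{u}} {f : X ⟶ Y} {g : Y' ⟶ Y} {f' : X' ⟶ Y'} {g' : X' ⟶ X}

/-- preimages of opens along a commutative square -/
noncomputable def opensSq (w : g' ≫ f = f' ≫ g) : Opens.map f ⋙ Opens.map g' ≅ Opens.map g ⋙ Opens.map f' :=
  NatIso.ofComponents (fun U => eqToIso (by
    ext v
    show f (g' v) ∈ U ↔ g (f' v) ∈ U
    rw [show f (g' v) = g (f' v) from ConcreteCategory.congr_hom w v]))

/-- direct images along a commutative square -/
noncomputable def spTau (w : g' ≫ f = f' ≫ g) :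
    CohTop.push g' ⋙ CohTop.push f ≅ CohTop.push f' ⋙ CohTop.push g :=
  tauIso (Opens.grothendieckTopology X) (Opens.grothendieckTopology X') (Opens.grothendieckTopology Y)
    (Opens.grothendieckTopology Y') (Opens.map g') (Opens.map g) (Opens.map f) (Opens.map f') (opensSq w)

variable (sq : IsPullback g' f' f g)

theorem gam_madj (F : CohTop.Ab X) :
    gam (madj g') (madj g) (CohTop.push f) (CohTop.push f') (spTau sq.w) F = (TopCompact.bcNat sq).app F := by
  have hu : ∀ {P S : TopCat.{u}} (h : P ⟶ S) (G : CohTop.Ab S), (madj h).unit.app G = TopPullModel.unit h G := by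
    intro P S h G
    change TopPullModel.unit h G ≫ (CohTop.push h).map (𝟙 _) = _
    rw [CategoryTheory.Functor.map_id, Category.comp_id]
  have e := gam_spec (madj g') (madj g) (CohTop.push f) (CohTop.push f') (spTau sq.w) F
  rw [hu, hu] at e
  refine TopPullModel.hom_ext g (e.trans ?_)
  refine Sheaf.hom_ext (NatTrans.ext (funext fun O => AddCommGrpCat.ext fun s => ?_))
  refine TopPullModel.secs_ext (g := g') (F := F) fun v x hx => ?_
  subst hx
  exact (TopPullModel.adjSt_gm f (𝟙 ((CohTop.push f).obj F)) (g' v.1)
    ⟨g (f' v.1), TopCompact.sq_apply sq v.1⟩ O.unop v.2 s).symm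

theorem isIso_gam_madj (hf : TopCompact.ProperSep f) (F : CohTop.Ab X) :
    IsIso (gam (madj g') (madj g) (CohTop.push f) (CohTop.push f') (spTau sq.w) F) := by
  rw [gam_madj sq]
  show IsIso ((TopCompact.bcIso sq hf).hom.app F)
  infer_instance

/-- the composite of proper maps with separated fibres -/
theorem properSep_comp {Z : TopCat.{u}} {a : X ⟶ Y} {b : Y ⟶ Z} (ha : TopCompact.ProperSep a)
    (hb : TopCompact.ProperSep b) : TopCompact.ProperSep (a ≫ b) := by
  refine ⟨hb.proper.comp ha.proper, fun x x' h hne => ?_⟩
  by_cases hy : a x = a x'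
  · exact ha.sep x x' hy hne
  · obtain ⟨U, V, hU, hV, hxU, hxV, hUV⟩ := hb.sep (a x) (a x') h hy
    exact ⟨_, _, hU.preimage a.hom.continuous, hV.preimage a.hom.continuous, hxU, hxV, hUV.preimage _⟩

end Groth.Agent.FibDescProper
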