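import Groth.Agent.FibDescProper.Spaces
import Groth.Agent.FibDescLoc.BiGeneral
import Mathlib

/-!
# Inverse images along a morphism of augmented simplicial spaces
-/

set_option backward.isDefEq.respectTransparency false
set_option backward.isDefEq.respectTransparency.types false
set_option linter.style.haveILetI false
set_option linter.unusedSectionVars false
set_option autoImplicit false
set_option synthInstance.maxHeartbeats 400000
set_option maxHeartbeats 1600000

universe u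

open CategoryTheory Limits Opposite TopologicalSpace Pseudofunctor Pseudofunctor.CoGrothendieck

namespace Groth.Agent.FibDescProper

open FibDescLoc
open FibDescSplit (Sh res pb rk pbAdj rkAdj total_hom_ext)

section General

variable {𝒮 : Type} [SmallCategory 𝒮] {Z' Z : 𝒮 ⥤ TopCat.{u}} (τ : Z' ⟶ Z)

/-- the inclusion of a level -/
noncomputable def lev (Z : 𝒮 ⥤ TopCat.{u}) (x : 𝒮) : Opens (Z.obj x) ⥤ TS Z := ι (tp Z) x

instance lev_continuous (x : 𝒮) :
    (lev Z x).IsContinuous (Opens.grothendieckTopology (Z.obj x)) (tJ Z) :=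
  FibSiteLib.isContinuous_ι (isPreFibSite_tp Z) x

instance lev_cocontinuous (x : 𝒮) :
    (lev Z x).IsCocontinuous (Opens.grothendieckTopology (Z.obj x)) (tJ Z) :=
  FibSiteLib.isCocontinuous_ι (isPreFibSite_tp Z) x

/-- preimages along a morphism of diagrams -/
noncomputable def AF : TS Z ⥤ TS Z' := Mor (Z' := Z) (Z := Z') (𝟭 𝒮) τ

instance AF_continuous : (AF τ).IsContinuous (tJ Z) (tJ Z') := Mor_continuous _ _

instance AF_flat : RepresentablyFlat (AF τ) := Mor_flat _ _ fun s =>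
  ⟨s, 𝟙 s, fun t => ⟨fun k k' h => by simpa using h, fun k => ⟨k, Category.id_comp k⟩⟩⟩

/-- levels and preimages -/
noncomputable def levSq (x : 𝒮) : lev Z x ⋙ AF τ ≅ Opens.map (τ.app x) ⋙ lev Z' x :=
  NatIso.ofComponents (fun U => Iso.refl _) (fun {U V} f => total_hom_ext (by
    show (𝟭 𝒮).map (𝟙 x) ≫ 𝟙 x = 𝟙 x ≫ 𝟙 x
    simp))

/-- restriction to levels commutes with direct images -/
noncomputable def levTau (x : 𝒮) :
    res (AF τ) (tJ Z) (tJ Z') ⋙ res (lev Z x) (Opens.grothendieckTopology (Z.obj x)) (tJ Z) ≅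
      res (lev Z' x) (Opens.grothendieckTopology (Z'.obj x)) (tJ Z') ⋙ CohTop.push (τ.app x) :=
  tauIso (tJ Z) (tJ Z') (Opens.grothendieckTopology (Z.obj x)) (Opens.grothendieckTopology (Z'.obj x))
    (AF τ) (Opens.map (τ.app x)) (lev Z x) (lev Z' x) (levSq τ x)

theorem isIso_gam_lev (x : 𝒮) (X : Sh (tJ Z)) :
    IsIso (gam (pbAdj (AF τ) (tJ Z) (tJ Z')) (TopPullModel.madj (τ.app x))
      (res (lev Z x) (Opens.grothendieckTopology (Z.obj x)) (tJ Z))
      (res (lev Z' x) (Opens.grothendieckTopology (Z'.obj x)) (tJ Z')) (levTau τ x) X) := by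
  refine isIso_gam_change (pbAdj (AF τ) (tJ Z) (tJ Z'))
    (pbAdj (Opens.map (τ.app x)) (Opens.grothendieckTopology (Z.obj x)) (Opens.grothendieckTopology (Z'.obj x)))
    _ _ (levTau τ x) _ _ X ?_
  refine isIso_gam_of_hasFac (tJ Z) (tJ Z') _ _ (AF τ) (Opens.map (τ.app x)) (lev Z x) (lev Z' x) (levSq τ x) ?_ X
  intro U z f
  let φ : x ⟶ U.base := f.base
  let W : Opens (Z.obj x) := (Opens.map (Z.map φ)).obj U.fiber
  have hW : z ≤ (Opens.map (τ.app x)).obj W := fun q hq => by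
    show Z.map φ (τ.app x q) ∈ (show Opens (Z.obj U.base) from U.fiber)
    rw [← show τ.app U.base (Z'.map φ q) = Z.map φ (τ.app x q) from ConcreteCategory.congr_hom (τ.naturality φ) q]
    exact le_hom f hq
  let F₀ : Fac (lev Z' x) (lev Z x) (AF τ) (Opens.map (τ.app x)) (levSq τ x).symm U z f :=
    ⟨W, homOfLE hW, tmk φ le_rfl, total_hom_ext (by
      show 𝟙 x ≫ (𝟙 x : x ⟶ x) ≫ φ = f.base
      simp [φ])⟩
  refine ⟨F₀, fun F => ?_⟩
  have hb : F.g.base = φ := by
    have e : 𝟙 x ≫ (𝟙 x : x ⟶ x) ≫ F.g.base = f.base := congrArg CoGrothendieck.Hom.base F.eq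
    simpa using e
  have hle : (show Opens (Z.obj x) from F.z') ≤ W := fun q hq => by
    have := le_hom F.g hq
    change Z.map φ q ∈ (show Opens (Z.obj U.base) from U.fiber)
    rw [← hb]
    exact this
  refine ⟨F, homOfLE hle, 𝟙 _, Subsingleton.elim _ _, total_hom_ext ?_, Subsingleton.elim _ _, ?_⟩
  · show 𝟙 x ≫ φ = F.g.base
    rw [hb, Category.id_comp]
  · exact (congrArg (· ≫ F.g) ((lev Z x).map_id _)).trans (Category.id_comp _)

end General

/-! ### the augmented situation -/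

abbrev WI : Type := (WithInitial SimplexCategory)ᵒᵖ

variable {Y' Y : WI ⥤ TopCat.{u}} (τ : Y' ⟶ Y)

/-- the part of an augmented simplicial space -/
noncomputable abbrev prt (Y : WI ⥤ TopCat.{u}) : SimplexCategoryᵒᵖ ⥤ TopCat.{u} :=
  FibDesc.toAug SimplexCategory ⋙ Y

/-- the morphism of the parts -/
abbrev τP : FibDesc.toAug SimplexCategory ⋙ Y' ⟶ FibDesc.toAug SimplexCategory ⋙ Y :=
  Functor.whiskerLeft (FibDesc.toAug SimplexCategory) τ

/-- the part and preimages -/
noncomputable def partSq : inclY Y ⋙ AF τ ≅ AF (τP τ) ⋙ inclY Y' :=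
  NatIso.ofComponents (fun U => Iso.refl _) (fun {U V} f => total_hom_ext (by
    show (FibDesc.toAug SimplexCategory).map f.base ≫ 𝟙 _ = 𝟙 _ ≫ (FibDesc.toAug SimplexCategory).map f.base
    simp))

/-- restriction to the part commutes with direct images -/
noncomputable def partTau :
    res (AF τ) (tJ Y) (tJ Y') ⋙ res (inclY Y) (tJ (prt Y)) (tJ Y) ≅
      res (inclY Y') (tJ (prt Y')) (tJ Y') ⋙ res (AF (τP τ)) (tJ (prt Y)) (tJ (prt Y')) :=
  tauIso (tJ Y) (tJ Y') (tJ (prt Y)) (tJ (prt Y')) (AF τ) (AF (τP τ)) (inclY Y) (inclY Y') (partSq τ)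

theorem isIso_gam_part (X : Sh (tJ Y)) :
    IsIso (gam (pbAdj (AF τ) (tJ Y) (tJ Y')) (pbAdj (AF (τP τ)) (tJ (prt Y)) (tJ (prt Y')))
      (res (inclY Y) (tJ (prt Y)) (tJ Y)) (res (inclY Y') (tJ (prt Y')) (tJ Y')) (partTau τ) X) := by
  refine isIso_gam_of_hasFac (tJ Y) (tJ Y') _ _ (AF τ) (AF (τP τ)) (inclY Y) (inclY Y') (partSq τ) ?_ X
  intro U z f
  let x : WI := (FibDesc.toAug SimplexCategory).obj z.base
  let φ : x ⟶ U.base := f.base
  let W : Opens (Y.obj x) := (Opens.map (Y.map φ)).obj U.fiber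
  let zW : TS (prt Y) := tobj (prt Y) z.base W
  have hW : (show Opens (Y'.obj x) from z.fiber) ≤ (Opens.map (τ.app x)).obj W := fun q hq => by
    show Y.map φ (τ.app x q) ∈ (show Opens (Y.obj U.base) from U.fiber)
    rw [← show τ.app U.base (Y'.map φ q) = Y.map φ (τ.app x q) from ConcreteCategory.congr_hom (τ.naturality φ) q]
    exact le_hom f hq
  let F₀ : Fac (inclY Y') (inclY Y) (AF τ) (AF (τP τ)) (partSq τ).symm U z f :=
    ⟨zW, tmk (x := z) (y := (AF (τP τ)).obj zW) (𝟙 z.base) (fun q hq => by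
        show (prt Y').map (𝟙 z.base) q ∈ (Opens.map (τ.app x)).obj W
        rw [(prt Y').map_id]
        exact hW hq),
      tmk (Z := Y) (x := (inclY Y).obj zW) (y := U) φ le_rfl,
      total_hom_ext (by
        show (FibDesc.toAug SimplexCategory).map (𝟙 z.base) ≫ 𝟙 x ≫ φ = f.base
        simp [φ, x])⟩
  refine ⟨F₀, fun F => ?_⟩
  let ψ : z.base ⟶ F.z'.base := F.h.base
  have hb : (FibDesc.toAug SimplexCategory).map ψ ≫ F.g.base = φ := by
    have e : (FibDesc.toAug SimplexCategory).map ψ ≫ 𝟙 _ ≫ F.g.base = f.base :=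
      congrArg CoGrothendieck.Hom.base F.eq
    simpa using e
  let zV : TS (prt Y) := tobj (prt Y) z.base ((Opens.map ((prt Y).map ψ)).obj F.z'.fiber)
  have hVW : zV.fiber.1 ⊆ W.1 := fun q hq => by
    have := le_hom F.g hq
    show Y.map φ q ∈ (show Opens (Y.obj U.base) from U.fiber)
    rw [← hb, Y.map_comp]
    exact this
  have hzV : (show Opens (Y'.obj x) from z.fiber) ≤ (Opens.map (τ.app x)).obj zV.fiber := fun q hq => by
    show (prt Y).map ψ (τ.app x q) ∈ (show Opens ((prt Y).obj F.z'.base) from F.z'.fiber)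
    rw [← show τ.app _ ((prt Y').map ψ q) = (prt Y).map ψ (τ.app x q) from
      ConcreteCategory.congr_hom ((τP τ).naturality ψ) q]
    exact le_hom F.h hq
  refine ⟨⟨zV, tmk (x := z) (y := (AF (τP τ)).obj zV) (𝟙 z.base) (fun q hq => by
      show (prt Y').map (𝟙 z.base) q ∈ (Opens.map (τ.app x)).obj zV.fiber
      rw [(prt Y').map_id]
      exact hzV hq), tmk (Z := Y) (x := (inclY Y).obj zV) (y := U) φ (fun q hq => hVW hq),
      total_hom_ext (by
        show (FibDesc.toAug SimplexCategory).map (𝟙 z.base) ≫ 𝟙 x ≫ φ = f.base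
        simp [φ, x])⟩,
    tmk (x := zV) (y := zW) (𝟙 z.base) (fun q hq => by
      show (prt Y).map (𝟙 z.base) q ∈ W
      rw [(prt Y).map_id]
      exact hVW hq),
    tmk (x := zV) (y := F.z') ψ le_rfl, total_hom_ext ?_, total_hom_ext ?_, total_hom_ext ?_, total_hom_ext ?_⟩
  · show 𝟙 z.base ≫ 𝟙 z.base = 𝟙 z.base
    simp
  · show (FibDesc.toAug SimplexCategory).map (𝟙 z.base) ≫ φ = φ
    simp [x]
  · show 𝟙 z.base ≫ ψ = ψ
    simp
  · exact hb

/-- the base and preimages -/
noncomputable def botTau :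
    res (AF τ) (tJ Y) (tJ Y') ⋙ res (lev Y (FibDesc.bot SimplexCategory)) _ (tJ Y) ≅
      res (lev Y' (FibDesc.bot SimplexCategory)) _ (tJ Y') ⋙ CohTop.push (τ.app (FibDesc.bot SimplexCategory)) :=
  levTau τ _

end Groth.Agent.FibDescProper
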