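import Groth.Agent.FibDescProper.Cech
import Groth.Agent.RDerLib.LES
import Groth.Agent.S0456
import Mathlib

/-!
# Acyclic sheaves for the direct image of an augmented simplicial space
-/

set_option backward.isDefEq.respectTransparency false
set_option backward.isDefEq.respectTransparency.types false
set_option linter.style.haveILetI false
set_option linter.unusedSectionVars false
set_option autoImplicit false
set_option synthInstance.maxHeartbeats 400000
set_option maxHeartbeats 1600000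

universe u

open CategoryTheory Limits Opposite TopologicalSpace Pseudofunctor Pseudofunctor.CoGrothendieck Simplicial

namespace Groth.Agent.FibDescProper

open FibDescLoc
open FibDescSplit (Sh res pb rk pbAdj rkAdj total_hom_ext)
open W7CosimpLim (cx cx_d consHom δ_zero_consHom δ_succ_consHom cx_map_f cx_shortExact)

variable (Y : WI ⥤ TopCat.{u})

local notation "⋆" => FibDesc.bot SimplexCategory

/-! ### injective sheaves on the part -/

theorem injective_presheaf {I : Sh (tJ (prt Y))} (hI : Injective I) : Injective I.obj :=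
  (sheafificationAdjunction (tJ (prt Y)) AddCommGrpCat.{u}).map_injective I hI

variable (P : (TS (prt Y))ᵒᵖ ⥤ AddCommGrpCat.{u})

/-- the preimage of an object of the total site in a higher level -/
noncomputable abbrev up (x : TS (prt Y)) (q : Σ k : SimplexCategory, (x.base.unop ⟶ k)) : TS (prt Y) :=
  tobj (prt Y) (op q.1) ((Opens.map ((prt Y).map q.2.op)).obj x.fiber)

/-- its arrow down -/
noncomputable abbrev down (x : TS (prt Y)) (q : Σ k : SimplexCategory, (x.base.unop ⟶ k)) : up Y x q ⟶ x :=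
  tmk q.2.op le_rfl

/-- transport of an index along an arrow -/
abbrev shift {x y : TS (prt Y)} (f : x ⟶ y) (q : Σ k : SimplexCategory, (x.base.unop ⟶ k)) :
    Σ k : SimplexCategory, (y.base.unop ⟶ k) := ⟨q.1, f.base.unop ≫ q.2⟩

/-- comparison of preimages -/
noncomputable def upMap {x y : TS (prt Y)} (f : x ⟶ y) (q : Σ k : SimplexCategory, (x.base.unop ⟶ k)) :
    up Y x q ⟶ up Y y (shift Y f q) :=
  tmk (𝟙 _) (fun v hv => by
    show (prt Y).map (𝟙 _) v ∈ (Opens.map ((prt Y).map (f.base.unop ≫ q.2).op)).obj y.fiber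
    rw [(prt Y).map_id]
    show (prt Y).map (q.2.op ≫ f.base) v ∈ (show Opens ((prt Y).obj y.base) from y.fiber)
    rw [(prt Y).map_comp]
    exact le_hom f hv)

theorem fam_congr {x y : TS (prt Y)} (fam : ∀ q, P.obj (op (up Y x q))) {a b : Σ k : SimplexCategory, (x.base.unop ⟶ k)}
    (e : a = b) (m : y ⟶ up Y x a) (m' : y ⟶ up Y x b) (hb : m.base ≫ (down Y x a).base = m'.base ≫ (down Y x b).base)
    (hm : m.base ≍ m'.base) : P.map m.op (fam a) = P.map m'.op (fam b) := by
  subst e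
  rw [show m = m' from total_hom_ext (eq_of_heq hm)]

/-- the cofree presheaf -/
noncomputable def CF : (TS (prt Y))ᵒᵖ ⥤ AddCommGrpCat.{u} where
  obj x := AddCommGrpCat.of (∀ q : Σ k : SimplexCategory, (x.unop.base.unop ⟶ k), P.obj (op (up Y x.unop q)))
  map {x y} f := AddCommGrpCat.ofHom (AddMonoidHom.mk' (fun fam q => P.map (upMap Y f.unop q).op (fam (shift Y f.unop q)))
    fun a b => funext fun q => map_add _ _ _)
  map_id x := AddCommGrpCat.ext fun fam => funext fun ⟨k, g⟩ => by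
    show P.map (upMap Y (𝟙 x.unop) ⟨k, g⟩).op (fam (shift Y (𝟙 x.unop) ⟨k, g⟩)) = fam ⟨k, g⟩
    refine Eq.trans (fam_congr Y P fam (b := ⟨k, g⟩) ?_ _ (𝟙 _) ?_ ?_) ?_
    · exact congrArg (Sigma.mk k) (Category.id_comp g)
    · exact Quiver.Hom.unop_inj (by show (𝟙 x.unop.base.unop ≫ g) ≫ 𝟙 k = g ≫ 𝟙 k; simp)
    · exact HEq.rfl
    · exact ConcreteCategory.congr_hom (P.map_id _) _
  map_comp {x y z} f g := AddCommGrpCat.ext fun fam => funext fun ⟨k, h⟩ => by
    show P.map (upMap Y (g.unop ≫ f.unop) ⟨k, h⟩).op (fam (shift Y (g.unop ≫ f.unop) ⟨k, h⟩)) =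
      P.map (upMap Y g.unop ⟨k, h⟩).op (P.map (upMap Y f.unop (shift Y g.unop ⟨k, h⟩)).op
        (fam (shift Y f.unop (shift Y g.unop ⟨k, h⟩))))
    refine Eq.trans ?_ (ConcreteCategory.congr_hom (P.map_comp _ _) _)
    refine fam_congr Y P fam ?_ _ (upMap Y g.unop ⟨k, h⟩ ≫ upMap Y f.unop (shift Y g.unop ⟨k, h⟩)) ?_ ?_
    · exact congrArg (Sigma.mk k) (show (g.unop ≫ f.unop).base.unop ≫ h = f.unop.base.unop ≫ g.unop.base.unop ≫ h
        from Category.assoc _ _ _)
    · exact Quiver.Hom.unop_inj (by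
        show ((f.unop.base.unop ≫ g.unop.base.unop) ≫ h) ≫ 𝟙 k = (f.unop.base.unop ≫ g.unop.base.unop ≫ h) ≫ 𝟙 k ≫ 𝟙 k
        simp)
    · exact heq_of_eq (show 𝟙 (op k) = 𝟙 (op k) ≫ 𝟙 (op k) from (Category.id_comp _).symm)

/-- the embedding -/
noncomputable def toCF : P ⟶ CF Y P where
  app x := AddCommGrpCat.ofHom (AddMonoidHom.mk' (fun s q => P.map (down Y x.unop q).op s)
    fun a b => funext fun q => map_add _ _ _)
  naturality {x y} f := AddCommGrpCat.ext fun s => funext fun q => by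
    show P.map (down Y y.unop q).op (P.map f s) = P.map (upMap Y f.unop q).op (P.map (down Y x.unop _).op s)
    refine (ConcreteCategory.congr_hom (P.map_comp _ _) s).symm.trans ?_
    refine Eq.trans ?_ (ConcreteCategory.congr_hom (P.map_comp _ _) s)
    exact congrArg (fun w => P.map w s) (Quiver.Hom.unop_inj (total_hom_ext (by
      show q.2.op ≫ f.unop.base = 𝟙 _ ≫ q.2.op ≫ f.unop.base
      simp)))

instance : Mono (toCF Y P) := by
  haveI : ∀ x, Mono ((toCF Y P).app x) := fun x => by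
    refine ConcreteCategory.mono_of_injective _ fun a b h => ?_
    let m : x.unop ⟶ up Y x.unop ⟨x.unop.base.unop, 𝟙 _⟩ := tmk (𝟙 _) (fun v hv => by
      show (prt Y).map (𝟙 x.unop.base) ((prt Y).map (𝟙 x.unop.base) v) ∈
        (show Opens ((prt Y).obj x.unop.base) from x.unop.fiber)
      rw [(prt Y).map_id]
      exact hv)
    have e : ∀ s, P.map m.op (P.map (down Y x.unop ⟨_, 𝟙 _⟩).op s) = s := fun s => by
      refine (ConcreteCategory.congr_hom (P.map_comp _ _) s).symm.trans ?_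
      refine Eq.trans (congrArg (fun w => P.map w s) (Quiver.Hom.unop_inj (total_hom_ext ?_)))
        (ConcreteCategory.congr_hom (P.map_id _) s)
      show 𝟙 x.unop.base ≫ 𝟙 x.unop.base = 𝟙 x.unop.base
      simp
    rw [← e a, ← e b]
    exact congrArg (P.map m.op) (congrFun h _)
  exact NatTrans.mono_of_mono_app _

variable {Y} (I : Sh (tJ (prt Y))) (hI : Injective I)

/-- prepending a vertex, on preimages -/
noncomputable def consUp {n : ℕ} (U : Opens (Y.obj ⋆)) (q : Σ k : SimplexCategory, (⦋n⦌ ⟶ k)) :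
    up Y (pre Y ⦋n⦌ U) q ⟶ pre Y ⦋n + 1⦌ U :=
  tmk (x := up Y (pre Y ⦋n⦌ U) q) (y := pre Y ⦋n + 1⦌ U) (consHom q.2).op (fun v hv => by
    show aug Y ⦋n + 1⦌ ((prt Y).map (consHom q.2).op v) ∈ U
    rw [show aug Y ⦋n + 1⦌ ((prt Y).map (consHom q.2).op v) = aug Y ⦋n⦌ ((prt Y).map q.2.op v) from
      (ConcreteCategory.congr_hom (aug_map Y (consHom q.2)) v).trans
        (ConcreteCategory.congr_hom (aug_map Y q.2) v).symm]
    exact hv)

/-- prepend a vertex -/
noncomputable def famCons {n : ℕ} (U : Opens (Y.obj ⋆)) :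
    I.obj.obj (op (pre Y ⦋n + 1⦌ U)) →+ (CF Y I.obj).obj (op (pre Y ⦋n⦌ U)) :=
  AddMonoidHom.mk' (fun z q => I.obj.map (consUp U q).op z) fun a b => funext fun q => map_add _ _ _

/-- the retraction -/
noncomputable def retr : CF Y I.obj ⟶ I.obj :=
  haveI := injective_presheaf Y hI
  Injective.factorThru (𝟙 _) (toCF Y I.obj)

theorem retr_toCF : toCF Y I.obj ≫ retr I hI = 𝟙 _ :=
  haveI := injective_presheaf Y hI
  Injective.comp_factorThru _ _

/-- the contracting homotopy -/
noncomputable def hmtp (n : ℕ) :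
    (cx.obj ((CP Y).obj I)).X (n + 1) ⟶ (cx.obj ((CP Y).obj I)).X n :=
  ⟨{ app := fun U => AddCommGrpCat.ofHom
      (((retr I hI).app (op (pre Y ⦋n⦌ U.unop))).hom.comp (famCons I U.unop))
     naturality := fun U V i => AddCommGrpCat.ext fun z => by
       let e : pre Y ⦋n⦌ V.unop ⟶ pre Y ⦋n⦌ U.unop := (lev (prt Y) (op ⦋n⦌)).map ((Opens.map (aug Y ⦋n⦌)).map i.unop)
       let e' : pre Y ⦋n + 1⦌ V.unop ⟶ pre Y ⦋n + 1⦌ U.unop :=
         (lev (prt Y) (op ⦋n + 1⦌)).map ((Opens.map (aug Y ⦋n + 1⦌)).map i.unop)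
       show (retr I hI).app (op (pre Y ⦋n⦌ V.unop)) (famCons I V.unop (I.obj.map e'.op z)) =
         I.obj.map e.op ((retr I hI).app (op (pre Y ⦋n⦌ U.unop)) (famCons I U.unop z))
       refine Eq.trans ?_ (NatTrans.naturality_apply (retr I hI) e.op _)
       refine congrArg ((retr I hI).app (op (pre Y ⦋n⦌ V.unop))) (funext fun q => ?_)
       show I.obj.map (consUp V.unop q).op (I.obj.map e'.op z) =
         I.obj.map (upMap Y e q).op (I.obj.map (consUp U.unop (shift Y e q)).op z)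
       refine (ConcreteCategory.congr_hom (I.obj.map_comp _ _) z).symm.trans ?_
       refine Eq.trans ?_ (ConcreteCategory.congr_hom (I.obj.map_comp _ _) z)
       exact congrArg (fun w => I.obj.map w z) (Quiver.Hom.unop_inj (total_hom_ext (Quiver.Hom.unop_inj (by
         show 𝟙 _ ≫ consHom q.2 = consHom (𝟙 _ ≫ q.2) ≫ 𝟙 _
         simp)))) }⟩

theorem hmtp_eq (n : ℕ) :
    (cx.obj ((CP Y).obj I)).d (n + 1) (n + 1 + 1) ≫ hmtp I hI (n + 1) +
      hmtp I hI n ≫ (cx.obj ((CP Y).obj I)).d n (n + 1) = 𝟙 ((cx.obj ((CP Y).obj I)).X (n + 1)) := by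
  refine Sheaf.hom_ext (NatTrans.ext (funext fun U => AddCommGrpCat.ext fun z => ?_))
  let W := U.unop
  let r := (retr I hI).app (op (pre Y ⦋n + 1⦌ W))
  let a : I.obj.obj (op (pre Y ⦋n + 1⦌ W)) :=
    r (famCons I W (((cx.obj ((CP Y).obj I)).d (n + 1) (n + 1 + 1)).hom.app (op W) z))
  let b : I.obj.obj (op (pre Y ⦋n + 1⦌ W)) :=
    ((cx.obj ((CP Y).obj I)).d n (n + 1)).hom.app (op W)
      ((retr I hI).app (op (pre Y ⦋n⦌ W)) (famCons I W z))
  show a + b = z
  simp only [a, b]
  rw [cx_d_apply, cx_d_apply]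
  have h1 : ∀ i : Fin (n + 2), I.obj.map (preMap Y (SimplexCategory.δ i) W).op
      ((retr I hI).app (op (pre Y ⦋n⦌ W)) (famCons I W z)) =
        r ((CF Y I.obj).map (preMap Y (SimplexCategory.δ i) W).op (famCons I W z)) :=
    fun i => (NatTrans.naturality_apply (retr I hI) _ _).symm
  simp only [h1, ← map_zsmul r.hom, ← map_sum r.hom, ← map_add r.hom]
  refine Eq.trans (congrArg r ?_) (ConcreteCategory.congr_hom (congrArg (fun t => t.app (op (pre Y ⦋n + 1⦌ W)))
    (retr_toCF I hI)) z)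
  funext q
  obtain ⟨k, g⟩ := q
  let ev : (CF Y I.obj).obj (op (pre Y ⦋n + 1⦌ W)) →+ I.obj.obj (op (up Y (pre Y ⦋n + 1⦌ W) ⟨k, g⟩)) :=
    AddMonoidHom.mk' (fun fam => fam ⟨k, g⟩) fun _ _ => rfl
  show ev (famCons I W _ + ∑ i : Fin (n + 2), (-1 : ℤ) ^ (i : ℕ) •
    (CF Y I.obj).map (preMap Y (SimplexCategory.δ i) W).op (famCons I W z)) = I.obj.map (down Y _ ⟨k, g⟩).op z
  rw [map_add, map_sum ev]
  simp only [map_zsmul ev]
  show I.obj.map (consUp W ⟨k, g⟩).op _ + ∑ i : Fin (n + 2), (-1 : ℤ) ^ (i : ℕ) •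
    I.obj.map (upMap Y (preMap Y (SimplexCategory.δ i) W) ⟨k, g⟩).op
      (I.obj.map (consUp W (shift Y (preMap Y (SimplexCategory.δ i) W) ⟨k, g⟩)).op z) = _
  rw [map_sum, Fin.sum_univ_succ, add_assoc, ← Finset.sum_add_distrib]
  simp only [map_zsmul]
  have h0 : I.obj.map (consUp W ⟨k, g⟩).op (I.obj.map (preMap Y (SimplexCategory.δ (0 : Fin (n + 1 + 2))) W).op z) =
      I.obj.map (down Y (pre Y ⦋n + 1⦌ W) ⟨k, g⟩).op z := by
    refine (ConcreteCategory.congr_hom (I.obj.map_comp _ _) z).symm.trans ?_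
    exact congrArg (fun w => I.obj.map w z) (Quiver.Hom.unop_inj (total_hom_ext (Quiver.Hom.unop_inj
      (δ_zero_consHom g))))
  have h2 : ∀ i : Fin (n + 2),
      I.obj.map (consUp W ⟨k, g⟩).op (I.obj.map (preMap Y (SimplexCategory.δ i.succ) W).op z) =
      I.obj.map (upMap Y (preMap Y (SimplexCategory.δ i) W) ⟨k, g⟩).op
        (I.obj.map (consUp W (shift Y (preMap Y (SimplexCategory.δ i) W) ⟨k, g⟩)).op z) := by
    intro i
    refine (ConcreteCategory.congr_hom (I.obj.map_comp _ _) z).symm.trans ?_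
    refine Eq.trans ?_ (ConcreteCategory.congr_hom (I.obj.map_comp _ _) z)
    exact congrArg (fun w => I.obj.map w z) (Quiver.Hom.unop_inj (total_hom_ext (Quiver.Hom.unop_inj
      ((δ_succ_consHom g i).trans (Category.comp_id _).symm))))
  rw [Fin.val_zero, pow_zero, one_zsmul, h0]
  refine add_eq_left.2 (Finset.sum_eq_zero fun i _ => ?_)
  rw [h2, Fin.val_succ, pow_succ, mul_neg, mul_one, neg_smul, neg_add_cancel]

include hI in
theorem exactAt_cx_injective (n : ℕ) : (cx.obj ((CP Y).obj I)).ExactAt (n + 1) := by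
  rw [HomologicalComplex.exactAt_iff' _ n (n + 1) (n + 1 + 1) (by simp) (by simp),
    ShortComplex.exact_iff_exact_up_to_refinements]
  intro A x hx
  refine ⟨A, 𝟙 A, inferInstance, x ≫ hmtp I hI n, ?_⟩
  change 𝟙 A ≫ x = (x ≫ hmtp I hI n) ≫ (cx.obj ((CP Y).obj I)).d n (n + 1)
  change x ≫ (cx.obj ((CP Y).obj I)).d (n + 1) (n + 1 + 1) = 0 at hx
  have h := congrArg (x ≫ ·) (hmtp_eq I hI n)
  simp only [Preadditive.comp_add] at h
  erw [reassoc_of% hx, zero_comp, zero_add, Category.comp_id] at h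
  rw [Category.id_comp, Category.assoc]
  exact h.symm

include hI in
theorem flasque_level (i : SimplexCategoryᵒᵖ) :
    TopCat.Sheaf.IsFlasque
      ((res (lev (prt Y) i) (Opens.grothendieckTopology ((prt Y).obj i)) (tJ (prt Y))).obj I) := by
  haveI := injective_presheaf Y hI
  refine ⟨fun {U V} h => ?_⟩
  rw [AddCommGrpCat.epi_iff_surjective]
  intro s
  let a := (lev (prt Y) i).map h.unop
  haveI : Mono a := ⟨fun g g' e => total_hom_ext (by
    have := congrArg CoGrothendieck.Hom.base e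
    change g.base ≫ 𝟙 i = g'.base ≫ 𝟙 i at this
    exact (cancel_mono (𝟙 i)).1 this)⟩
  let A := (AddCommGrpCat.adj.{u}).whiskerRight (TS (prt Y))ᵒᵖ
  let F : TS (prt Y) → ((TS (prt Y))ᵒᵖ ⥤ AddCommGrpCat.{u}) := fun x => yoneda.obj x ⋙ AddCommGrpCat.free
  let m : F ((lev (prt Y) i).obj V.unop) ⟶ F ((lev (prt Y) i).obj U.unop) :=
    Functor.whiskerRight (yoneda.map a) AddCommGrpCat.free
  haveI : Mono m := by
    haveI : ∀ x, Mono (m.app x) := fun x => by
      haveI : Mono ((yoneda.map a).app x) := inferInstance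
      exact AddCommGrpCat.free.map_mono _
    exact NatTrans.mono_of_mono_app _
  let η : F ((lev (prt Y) i).obj V.unop) ⟶ I.obj := (A.homEquiv _ _).symm (yonedaEquiv.symm s)
  let η' := Injective.factorThru η m
  refine ⟨yonedaEquiv (A.homEquiv _ _ η'), ?_⟩
  have e : A.homEquiv _ _ η = yoneda.map a ≫ A.homEquiv _ _ η' := by
    rw [← Adjunction.homEquiv_naturality_left]
    exact congrArg _ (Injective.comp_factorThru η m).symm
  rw [Equiv.apply_symm_apply] at e
  have e2 := congrArg yonedaEquiv e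
  rw [Equiv.apply_symm_apply] at e2
  refine Eq.trans ?_ e2.symm
  exact (yonedaEquiv_naturality (A.homEquiv _ _ η') a)

/-! ### the dimension shift -/

variable (Y)

/-- the direct image to the base -/
noncomputable abbrev pushB : Sh (tJ (prt Y)) ⥤ Sh (Opens.grothendieckTopology (Y.obj ⋆)) :=
  rk (inclY Y) (tJ (prt Y)) (tJ Y) ⋙ res (lev Y ⋆) (Opens.grothendieckTopology (Y.obj ⋆)) (tJ Y)

instance pushB_limits : PreservesFiniteLimits (pushB Y) := by
  haveI : PreservesLimitsOfSize.{0, 0} (rk (inclY Y) (tJ (prt Y)) (tJ Y)) :=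
    (rkAdj (inclY Y) (tJ (prt Y)) (tJ Y)).rightAdjoint_preservesLimits
  haveI : PreservesFiniteLimits (rk (inclY Y) (tJ (prt Y)) (tJ Y)) :=
    PreservesLimitsOfSize.preservesFiniteLimits _
  exact comp_preservesFiniteLimits _ _

instance pushB_additive : (pushB Y).Additive :=
  haveI : (rk (inclY Y) (tJ (prt Y)) (tJ Y)).Additive :=
    (rkAdj (inclY Y) (tJ (prt Y)) (tJ Y)).right_adjoint_additive
  inferInstance

instance CP_preservesZeroMorphisms : (CP Y).PreservesZeroMorphisms where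
  map_zero M M' := NatTrans.ext (funext fun n => (lvl Y n).map_zero M M')

instance isIso_counit_incl (M : Sh (tJ (prt Y))) :
    IsIso ((rkAdj (inclY Y) (tJ (prt Y)) (tJ Y)).counit.app M) := by
  haveI : (inclY Y).Full := FibDescSplit.baseChangeFunctor_full (ψ := FibDesc.toAug SimplexCategory)
  haveI : (inclY Y).Faithful := FibDescSplit.baseChangeFunctor_faithful (ψ := FibDesc.toAug SimplexCategory)
  haveI : IsIso ((sheafToPresheaf _ _).map ((rkAdj (inclY Y) (tJ (prt Y)) (tJ Y)).counit.app M)) := by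
    rw [show (sheafToPresheaf _ _).map ((rkAdj (inclY Y) (tJ (prt Y)) (tJ Y)).counit.app M) =
      ((inclY Y).op.ranAdjunction AddCommGrpCat.{u}).counit.app M.obj from
        Functor.sheafAdjunctionCocontinuous_counit_app_hom _ AddCommGrpCat.{u} _ _ M, Functor.ranAdjunction_counit]
    infer_instance
  exact isIso_of_reflects_iso _ (sheafToPresheaf _ _)

theorem cx_d_natural {M M' : Sh (tJ (prt Y))} (φ : M ⟶ M') (n : ℕ) :
    ((CP Y).map φ).app ⦋n⦌ ≫ (cx.obj ((CP Y).obj M')).d n (n + 1) =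
      (cx.obj ((CP Y).obj M)).d n (n + 1) ≫ ((CP Y).map φ).app ⦋n + 1⦌ := by
  have h := (cx.map ((CP Y).map φ)).comm n (n + 1)
  rw [cx_map_f, cx_map_f] at h
  exact h

/-- from the direct image to the first level -/
noncomputable def rB : pushB Y ⟶ lvl Y ⦋0⦌ where
  app M := (r0 Y).app ((rk (inclY Y) (tJ (prt Y)) (tJ Y)).obj M) ≫
    (lvl Y ⦋0⦌).map ((rkAdj (inclY Y) (tJ (prt Y)) (tJ Y)).counit.app M)
  naturality M M' φ := by
    let N := (rk (inclY Y) (tJ (prt Y)) (tJ Y)).map φ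
    have h1 : (pushB Y).map φ ≫ (r0 Y).app _ =
        (r0 Y).app _ ≫ (lvl Y ⦋0⦌).map ((res (inclY Y) (tJ (prt Y)) (tJ Y)).map N) := (r0 Y).naturality N
    rw [← Category.assoc, h1, Category.assoc, Category.assoc]
    refine congrArg ((r0 Y).app _ ≫ ·) ?_
    exact (((lvl Y ⦋0⦌).map_comp _ _).symm.trans
      (congrArg (lvl Y ⦋0⦌).map ((rkAdj (inclY Y) (tJ (prt Y)) (tJ Y)).counit.naturality φ))).trans
      ((lvl Y ⦋0⦌).map_comp _ _)

theorem rB_d (M : Sh (tJ (prt Y))) : (rB Y).app M ≫ (cx.obj ((CP Y).obj M)).d 0 1 = 0 := by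
  show (_ ≫ ((CP Y).map _).app ⦋0⦌) ≫ _ = 0
  rw [Category.assoc, cx_d_natural, ← Category.assoc]
  exact (congrArg (· ≫ _) (r0_d Y _)).trans zero_comp

/-- the beginning of the Cech complex of a sheaf on the part -/
noncomputable def scB (M : Sh (tJ (prt Y))) : ShortComplex (Sh (Opens.grothendieckTopology (Y.obj ⋆))) :=
  ShortComplex.mk ((rB Y).app M) ((cx.obj ((CP Y).obj M)).d 0 1) (rB_d Y M)

theorem scB_exact (M : Sh (tJ (prt Y))) : Mono (scB Y M).f ∧ (scB Y M).Exact := by
  obtain ⟨h1, h2⟩ := sc_rk Y M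
  let N := (rk (inclY Y) (tJ (prt Y)) (tJ Y)).obj M
  let ε := (rkAdj (inclY Y) (tJ (prt Y)) (tJ Y)).counit.app M
  haveI : IsIso ε := isIso_counit_incl Y M
  let e : sc Y N ≅ scB Y M := ShortComplex.isoMk (Iso.refl _) (((CP Y).mapIso (asIso ε)).app ⦋0⦌)
    (((CP Y).mapIso (asIso ε)).app ⦋1⦌) (Category.id_comp _) (cx_d_natural Y ε 0)
  refine ⟨?_, (ShortComplex.exact_iff_of_iso e).1 h2⟩
  haveI : Mono ((r0 Y).app N) := h1
  exact mono_comp _ ((lvl Y ⦋0⦌).map ε)

/-- sheaves with acyclic levels -/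
def LevAcyclic (M : Sh (tJ (prt Y))) : Prop :=
  ∀ (n : SimplexCategory) (j : ℕ), IsZero ((CohTop.Rpush (aug Y n) (j + 1)).obj
    ((res (lev (prt Y) (op n)) (Opens.grothendieckTopology ((prt Y).obj (op n))) (tJ (prt Y))).obj M))

theorem levAcyclic_injective {I : Sh (tJ (prt Y))} (hI : Injective I) : LevAcyclic Y I := fun n j => by
  haveI := flasque_level I hI (op n)
  exact S0456.result _ _ j

theorem shortExact_CP {T : ShortComplex (Sh (tJ (prt Y)))} (hT : T.ShortExact) (h : LevAcyclic Y T.X₁) :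
    ((T.map (CP Y)).map cx).ShortExact := by
  refine HomologicalComplex.shortExact_of_degreewise_shortExact _ fun n => ?_
  let G := res (lev (prt Y) (op ⦋n⦌)) (Opens.grothendieckTopology ((prt Y).obj (op ⦋n⦌))) (tJ (prt Y))
  haveI : PreservesFiniteLimits (CohTop.push (aug Y ⦋n⦌)) := by
    haveI := (TopCat.Sheaf.pullbackPushforwardAdjunction AddCommGrpCat.{u} (aug Y ⦋n⦌)).rightAdjoint_preservesLimits
    infer_instance
  have hG : (T.map G).ShortExact := hT.map_of_exact G
  let Tres := RDerLib.res hG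
  have hs : ((T.map G).map (CohTop.push (aug Y ⦋n⦌))).ShortExact := by
    have he : Epi (((CohTop.push (aug Y ⦋n⦌)).rightDerived 0).map (T.map G).g) :=
      (RDerLib.exact₃ _ Tres 0 1 rfl).epi_f ((h ⦋n⦌ 0).eq_of_tgt _ _)
    haveI he2 : Epi ((CohTop.push (aug Y ⦋n⦌)).map (T.map G).g) := by
      have e := (CohTop.push (aug Y ⦋n⦌)).rightDerivedZeroIsoSelf.hom.naturality (T.map G).g
      haveI := he
      exact epi_of_epi_fac e.symm
    haveI := hG.mono_f
    exact { exact := (hG.exact.map_of_mono_of_preservesKernel (CohTop.push (aug Y ⦋n⦌)) inferInstance inferInstance)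
            mono_f := inferInstanceAs (Mono ((CohTop.push (aug Y ⦋n⦌)).map (T.map G).f))
            epi_g := he2 }
  refine ShortComplex.shortExact_of_iso ?_ hs
  exact ShortComplex.isoMk (Iso.refl _) (Iso.refl _) (Iso.refl _)
    ((Category.id_comp _).trans ((show (cx.map ((CP Y).map T.f)).f n = (CohTop.push (aug Y ⦋n⦌)).map (G.map T.f)
      from cx_map_f _ n).trans (Category.comp_id _).symm))
    ((Category.id_comp _).trans ((show (cx.map ((CP Y).map T.g)).f n = (CohTop.push (aug Y ⦋n⦌)).map (G.map T.g)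
      from cx_map_f _ n).trans (Category.comp_id _).symm))

theorem levAcyclic_quotient {T : ShortComplex (Sh (tJ (prt Y)))} (hT : T.ShortExact) (h₁ : LevAcyclic Y T.X₁)
    (h₂ : LevAcyclic Y T.X₂) : LevAcyclic Y T.X₃ := fun n j => by
  let G := res (lev (prt Y) (op n)) (Opens.grothendieckTopology ((prt Y).obj (op n))) (tJ (prt Y))
  let Tres := RDerLib.res (hT.map_of_exact G)
  exact (RDerLib.exact₃ (CohTop.push (aug Y n)) Tres (j + 1) (j + 1 + 1) rfl).isZero_X₂
    ((h₂ n j).eq_of_src _ _) ((h₁ n (j + 1)).eq_of_tgt _ _)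

theorem isZero_rightDerived : ∀ (q : ℕ) (M : Sh (tJ (prt Y))), LevAcyclic Y M →
    (∀ k : ℕ, (cx.obj ((CP Y).obj M)).ExactAt (k + 1)) → IsZero (((pushB Y).rightDerived (q + 1)).obj M) := by
  intro q
  induction q with
  | zero =>
    intro M hM hC
    let T : ShortComplex (Sh (tJ (prt Y))) :=
      ShortComplex.mk (Injective.ι M) (cokernel.π (Injective.ι M)) (cokernel.condition _)
    have hT : T.ShortExact :=
      { exact := ShortComplex.exact_of_g_is_cokernel _ (cokernelIsCokernel (Injective.ι M))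
        mono_f := inferInstanceAs (Mono (Injective.ι M))
        epi_g := inferInstanceAs (Epi (cokernel.π (Injective.ι M))) }
    have hK := shortExact_CP Y hT hM
    haveI : Epi ((pushB Y).map T.g) := by
      rw [epi_iff_surjective_up_to_refinements]
      intro A y
      let F := fun n : ℕ => HomologicalComplex.eval (Sh (Opens.grothendieckTopology (Y.obj ⋆))) (ComplexShape.up ℕ) n
      have hc : ∀ n, (((T.map (CP Y)).map cx).map (F n)).ShortExact := fun n => hK.map_of_exact _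
      have hf : ∀ n, Mono (((CP Y).map T.f).app ⦋n⦌) := fun n => by
        have h : Mono ((cx.map ((CP Y).map T.f)).f n) := (hc n).mono_f
        rw [cx_map_f] at h
        exact h
      haveI : Epi (((CP Y).map T.g).app ⦋0⦌) := by
        have h : Epi ((cx.map ((CP Y).map T.g)).f 0) := (hc 0).epi_g
        rw [cx_map_f] at h
        exact h
      obtain ⟨A₁, π₁, hπ₁, x, hx⟩ := surjective_up_to_refinements_of_epi (((CP Y).map T.g).app ⦋0⦌)
        (y ≫ (rB Y).app T.X₃)
      let d := fun (M : Sh (tJ (prt Y))) n => (cx.obj ((CP Y).obj M)).d n (n + 1)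
      have hx2 : (x ≫ d T.X₂ 0) ≫ ((CP Y).map T.g).app ⦋1⦌ = 0 := by
        rw [Category.assoc, ← cx_d_natural, ← reassoc_of% hx]
        exact (congrArg (fun k => π₁ ≫ y ≫ k) (rB_d Y T.X₃)).trans (by simp)
      haveI := hf 1
      haveI := hf 2
      obtain ⟨A₂, π₂, hπ₂, m, hm⟩ : ∃ (A₂ : _) (π₂ : A₂ ⟶ A₁) (_ : Epi π₂) (m : A₂ ⟶ (cx.obj ((CP Y).obj M)).X 1),
          π₂ ≫ x ≫ d T.X₂ 0 = m ≫ ((CP Y).map T.f).app ⦋1⦌ := by
        obtain ⟨A₂, π₂, hπ₂, m, hm⟩ := (hc 1).exact.exact_up_to_refinements (x ≫ d T.X₂ 0)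
          (by
            show (x ≫ d T.X₂ 0) ≫ (cx.map ((CP Y).map T.g)).f 1 = 0
            rw [cx_map_f]
            exact hx2)
        refine ⟨A₂, π₂, hπ₂, m, hm.trans ?_⟩
        show m ≫ (cx.map ((CP Y).map T.f)).f 1 = _
        rw [cx_map_f]
      have hm2 : m ≫ d M 1 = 0 := by
        rw [← cancel_mono (((CP Y).map T.f).app ⦋2⦌), Category.assoc, zero_comp]
        refine (congrArg (m ≫ ·) (cx_d_natural Y T.f 1).symm).trans ?_
        rw [← reassoc_of% hm]
        show π₂ ≫ x ≫ (cx.obj ((CP Y).obj T.X₂)).d 0 1 ≫ (cx.obj ((CP Y).obj T.X₂)).d 1 2 = 0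
        rw [HomologicalComplex.d_comp_d, comp_zero, comp_zero]
      have hex := (hC 0)
      rw [HomologicalComplex.exactAt_iff' _ 0 1 2 (by simp) (by simp),
        ShortComplex.exact_iff_exact_up_to_refinements] at hex
      obtain ⟨A₃, π₃, hπ₃, w, hw⟩ := hex m hm2
      change π₃ ≫ m = w ≫ d M 0 at hw
      let x' := π₃ ≫ π₂ ≫ x - w ≫ ((CP Y).map T.f).app ⦋0⦌
      obtain ⟨hmono, hexB⟩ := scB_exact Y T.X₂
      haveI := hmono
      have hx' : x' ≫ d T.X₂ 0 = 0 := by
        simp only [x', d, Preadditive.sub_comp, Category.assoc]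
        rw [sub_eq_zero]
        refine Eq.trans (congrArg (π₃ ≫ ·) hm) ?_
        rw [reassoc_of% hw, ← cx_d_natural]
      refine ⟨A₃, π₃ ≫ π₂ ≫ π₁, inferInstance, hexB.lift x' hx', ?_⟩
      haveI := (scB_exact Y T.X₃).1
      rw [← cancel_mono (scB Y T.X₃).f]
      show ((π₃ ≫ π₂ ≫ π₁) ≫ y) ≫ (rB Y).app T.X₃ = (hexB.lift x' hx' ≫ (pushB Y).map T.g) ≫ (rB Y).app T.X₃
      have hn : (pushB Y).map T.g ≫ (rB Y).app T.X₃ = (rB Y).app T.X₂ ≫ ((CP Y).map T.g).app ⦋0⦌ :=
        (rB Y).naturality T.g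
      rw [Category.assoc (hexB.lift x' hx'), hn, ← Category.assoc (hexB.lift x' hx')]
      refine Eq.trans ?_ (congrArg (· ≫ ((CP Y).map T.g).app ⦋0⦌) (hexB.lift_f x' hx')).symm
      simp only [x', Preadditive.sub_comp, Category.assoc, ← NatTrans.comp_app, ← Functor.map_comp, T.zero,
        Functor.map_zero]
      simp [hx]
    haveI : Epi (((pushB Y).rightDerived 0).map T.g) := by
      have e := (pushB Y).rightDerivedZeroIsoSelf.hom.naturality T.g
      haveI : Epi (((pushB Y).rightDerived 0).map T.g ≫ (pushB Y).rightDerivedZeroIsoSelf.hom.app T.X₃) := by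
        rw [e]; infer_instance
      have : ((pushB Y).rightDerived 0).map T.g = (((pushB Y).rightDerived 0).map T.g ≫
        (pushB Y).rightDerivedZeroIsoSelf.hom.app T.X₃) ≫ (pushB Y).rightDerivedZeroIsoSelf.inv.app T.X₃ := by
        rw [Category.assoc, Iso.hom_inv_id_app]
        exact (Category.comp_id _).symm
      rw [this]
      infer_instance
    let Tres := RDerLib.res hT
    have hI₁ := (pushB Y).isZero_rightDerived_obj_injective_succ 0 (Injective.under M)
    haveI hδ : Epi (Tres.delta (pushB Y) 0 1 rfl) :=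
      (RDerLib.exact₁ (pushB Y) Tres 0 1 rfl).epi_f (hI₁.eq_of_tgt _ _)
    have h0 : Tres.delta (pushB Y) 0 1 rfl = 0 := by
      rw [← cancel_epi (((pushB Y).rightDerived 0).map T.g), comp_zero]
      exact RDerLib.g_delta (pushB Y) Tres 0 1 rfl
    exact IsZero.of_epi_eq_zero _ h0
  | succ q ih =>
    intro M hM hC
    let T : ShortComplex (Sh (tJ (prt Y))) :=
      ShortComplex.mk (Injective.ι M) (cokernel.π (Injective.ι M)) (cokernel.condition _)
    have hT : T.ShortExact :=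
      { exact := ShortComplex.exact_of_g_is_cokernel _ (cokernelIsCokernel (Injective.ι M))
        mono_f := inferInstanceAs (Mono (Injective.ι M))
        epi_g := inferInstanceAs (Epi (cokernel.π (Injective.ι M))) }
    have hI : Injective T.X₂ := inferInstanceAs (Injective (Injective.under M))
    have hK := shortExact_CP Y hT hM
    have hC3 : ∀ k : ℕ, (cx.obj ((CP Y).obj T.X₃)).ExactAt (k + 1) := fun k => by
      rw [HomologicalComplex.exactAt_iff_isZero_homology]
      exact (hK.homology_exact₃ (k + 1) (k + 1 + 1) (by simp)).isZero_X₂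
        (((HomologicalComplex.exactAt_iff_isZero_homology _ _).1 (exactAt_cx_injective T.X₂ hI k)).eq_of_src _ _)
        (((HomologicalComplex.exactAt_iff_isZero_homology _ _).1 (hC (k + 1))).eq_of_tgt _ _)
    have h3 := ih T.X₃ (levAcyclic_quotient Y hT hM (levAcyclic_injective Y hI)) hC3
    let Tres := RDerLib.res hT
    exact (RDerLib.exact₁ (pushB Y) Tres (q + 1) (q + 1 + 1) rfl).isZero_X₂ (h3.eq_of_src _ _)
      (((pushB Y).isZero_rightDerived_obj_injective_succ (q + 1) (Injective.under M)).eq_of_tgt _ _)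

end Groth.Agent.FibDescProper
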